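/-
PSp(4,3) on 40 points (generated by tools_h56/model.py).
-/
import Cfsg.Agent.H56.ClassModel
import Cfsg.Agent.H56.Fields
import Cfsg.Agent.H56.IsoK

set_option autoImplicit false

namespace Cfsg.Agent.H56.S43

open H14

def VT : ℕ := nat_lit 0x958421548565294969a91144241061905981895119911509554114050499504564a1a44094a52501
def R : BT := (.node (nat_lit 84) (.node (nat_lit 36) (.node (nat_lit 17) (.node (nat_lit 5) (.node (nat_lit 4) (.leaf (nat_lit 0)) (.leaf (nat_lit 11))) (.node (nat_lit 9) (.leaf (nat_lit 12)) (.node (nat_lit 16) (.leaf (nat_lit 16)) (.leaf (nat_lit 26))))) (.node (nat_lit 21) (.node (nat_lit 20) (.leaf (nat_lit 29)) (.leaf (nat_lit 13))) (.node (nat_lit 25) (.leaf (nat_lit 17)) (.node (nat_lit 33) (.leaf (nat_lit 19)) (.leaf (nat_lit 37)))))) (.node (nat_lit 68) (.node (nat_lit 41) (.node (nat_lit 37) (.leaf (nat_lit 27)) (.leaf (nat_lit 1))) (.node (nat_lit 64) (.leaf (nat_lit 33)) (.node (nat_lit 65) (.leaf (nat_lit 4)) (.leaf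 (nat_lit 14))))) (.node (nat_lit 73) (.node (nat_lit 69) (.leaf (nat_lit 28)) (.leaf (nat_lit 8))) (.node (nat_lit 80) (.leaf (nat_lit 32)) (.node (nat_lit 81) (.leaf (nat_lit 9)) (.leaf (nat_lit 20))))))) (.node (nat_lit 137) (.node (nat_lit 101) (.node (nat_lit 89) (.node (nat_lit 85) (.leaf (nat_lit 36)) (.leaf (nat_lit 15))) (.node (nat_lit 97) (.leaf (nat_lit 23)) (.node (nat_lit 100) (.leaf (nat_lit 25)) (.leaf (nat_lit 7))))) (.node (nat_lit 129) (.node (nat_lit 105) (.leaf (nat_lit 34)) (.leaf (nat_lit 31))) (.node (nat_lit 132) (.leaf (nat_lit 22)) (.node (nat_lit 133) (.leaf (nat_lit 38)) (.leaf (nat_lit 35)))))) (.node (nat_lit 153) (.node (nat_lit 145) (.node (nat_lit 144) (.leaf (nat_lit 21)) (.leaf (nat_lit 24))) (.node (nat_lit 148) (.leaf (nat_lit 18)) (.node (nat_lit 149) (.leaf (nat_lit 3)) (.leaf (nat_lit 39))))) (.node (nat_lit 164) (.node (nat_lit 161) (.leaf (nat_lit 10)) (.leaf (nat_lit 6))) (.node (nat_lit 165) (.leaf (nat_lit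 5)) (.node (nat_lit 169) (.leaf (nat_lit 2)) (.leaf (nat_lit 30))))))))
def gs : List (ℕ × ℕ) := [(nat_lit 0x9849a21a, nat_lit 0x9e14a695b74b21e9238a07c639661a09c40365735551344f00c287245101), (nat_lit 0x4529665a, nat_lit 0x8a566799331f1237248215c57915157403db69825628749038d2c80460c2)]
def gens : List ℕ := [nat_lit 0x9e14a695b74b21e9238a07c639661a09c40365735551344f00c287245101, nat_lit 0x8a566799331f1237248215c57915157403db69825628749038d2c80460c2]
def certL0 : Lev := ⟨nat_lit 0, nat_lit 0xffffffffff, (.node (nat_lit 20) (.node (nat_lit 10) (.node (nat_lit 5) (.node (nat_lit 2) (.node (nat_lit 1) (.leaf (nat_lit 0x9e69648e28607de75c6da6585d65544d24503ce34c2ca2481c61440c2040)) (.leaf (nat_lit 0x9e48dd71b99a65e8528943d539630b2a52512173468050df118081413007))) (.node (nat_lit 3) (.leaf (nat_lit 0x6e39950429d882549f2d30d679034852111c1c644a74c88e25a9056405cf)) (.node (nat_lit 4) (.leaf (nat_lit 0x4d60995df9076e68a574420914f2cc3678037a349551c6a119139800a401))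 (.leaf (nat_lit 0x9dd7214a29143de9a56cb20c5d61a01630c97ce3586824190554c044a1c4))))) (.node (nat_lit 7) (.node (nat_lit 6) (.leaf (nat_lit 0x6d50527cb8d30e59e10881cd19029d32688439e45a6246601560177143c9)) (.leaf (nat_lit 0x71e8dd5e43d06d98932119879615549cd30458a09a60519f2c03a00d2049))) (.node (nat_lit 8) (.leaf (nat_lit 0x9e14a695b74b21e9238a07c639661a09c40365735551344f00c287245101)) (.node (nat_lit 9) (.leaf (nat_lit 0x7676d390a2e11825d65228dc98310965021f1d180f34194015231e61568e)) (.leaf (nat_lit 0x4d95e295d5842269277cc78b8cf5547026a08454911ce01b6092900cd046)))))) (.node (nat_lit 15) (.node (nat_lit 12) (.node (nat_lit 11) (.leaf (nat_lit 0x6d27e78425481e58e62dd38a7906989016628064564c07035cd50f10c245)) (.leaf (nat_lit 0x9f39b4a45873e19a721579495961a8c580b74a7100170621914c324d10c))) (.node (nat_lit 13) (.leaf (nat_lit 0x2e149a24c6ca21f0474e41109624436153e65cd6408d608671d9d43857a0)) (.node (nat_lit 14) (.leaf (nat_lit 0x75779365c4484259e21168ca99a51590685f30b00f3980a01521db0490cd))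 (.leaf (nat_lit 0x30718b06741781549b0da9587ce29d8542138c09a215e2423599047113d6))))) (.node (nat_lit 17) (.node (nat_lit 16) (.leaf (nat_lit 0x8a58581059c62d270850225678334f69d1e300c4139156d746098a7c1399)) (.leaf (nat_lit 0x4e49d609d8948666577c76d18cf2442a50c020548b30d81e05570668e610))) (.node (nat_lit 18) (.leaf (nat_lit 0x4e29649df64c7a658275485514f44739701a6e348910a0c840b34181c198)) (.node (nat_lit 19) (.leaf (nat_lit 0x8a566799331f1237248215c57915157403db69825628749038d2c80460c2)) (.leaf (nat_lit 0x6e786398b49d3a554109881a19059301f7190de44d2141073ca3098a4157))))))) (.node (nat_lit 30) (.node (nat_lit 25) (.node (nat_lit 22) (.node (nat_lit 21) (.leaf (nat_lit 0x1619d62a68a091d2173c16c349f40009c4446538da60d51e1c69552ce309)) (.leaf (nat_lit 0x2da2411d386411f6d53035d136202359208f1a565d2a738851015e99881c))) (.node (nat_lit 23) (.leaf (nat_lit 0x7e585388e25e0670a431914d9801d15986dd5150cf2905da8d210818b81c)) (.node (nat_lit 24) (.leaf (nat_lit 0x2d07939254425dc3226858e100435f6472959dd9810d822059b1923c9394))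 (.leaf (nat_lit 0x2c11db54c6835df8524e318096274a9c938220d6509059847916203d6714))))) (.node (nat_lit 27) (.node (nat_lit 26) (.leaf (nat_lit 0x89811c2149422529dd14f00d3034e45616c75de4201a67cb29604e8da651)) (.leaf (nat_lit 0x1562885cf8416dd89c9806504df6983675117928c68252e454338c102247))) (.node (nat_lit 28) (.leaf (nat_lit 0x9977852250d925c9e201648274b80685590f61a11f38c2944e305b1d044d)) (.node (nat_lit 29) (.leaf (nat_lit 0x8a799c9209615e33004d569461158a1d948f41e24d7cb0442051836dd08e)) (.leaf (nat_lit 0x8266a29c73570e401c8656068d229630e4135540512c864f7897c40856dd)))))) (.node (nat_lit 35) (.node (nat_lit 32) (.node (nat_lit 31) (.leaf (nat_lit 0x4e442270b15a08064c56779d8c17cd9481202966d11839926098573943c7)) (.leaf (nat_lit 0x89c22774560f0129615245d37838069847db2cc4160818c938d6991d544a))) (.node (nat_lit 33) (.leaf (nat_lit 0x1485e272658065d8673d879a49f1a094a2d49138c304e11b31008944d1d5)) (.node (nat_lit 34) (.leaf (nat_lit 0x80d3a66a100b3e48a71d70c95121a515c4c262304a58c41575121e65f11b))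 (.leaf (nat_lit 0x9835577809ce51c14895926368b0964223c749d1201a191835f3132816d1))))) (.node (nat_lit 37) (.node (nat_lit 36) (.leaf (nat_lit 0x89c90c0139d56a395980a41679135f2e60521182458466d70d47423c7388)) (.leaf (nat_lit 0x8140c010a99d05988c19038935b1dc5a54c86233e11675df2d109e915692))) (.node (nat_lit 38) (.leaf (nat_lit 0x88c02566070a4239e64df10d6111611a46c15de25455d3da0961ce48b203)) (.node (nat_lit 39) (.leaf (nat_lit 0x8001223065103999a529c6078db8459c35d37cd3d174290178955a21648b)) (.leaf (nat_lit 0x152660d08144de2173a768c70f5821514a566390b84d8877441986df281))))))))⟩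
def certC0 : LevCert := ⟨certL0,
    [(nat_lit 7, nat_lit 0), (nat_lit 18, nat_lit 1), (nat_lit 4, nat_lit 0), (nat_lit 10, nat_lit 1), (nat_lit 37, nat_lit 0), (nat_lit 9, nat_lit 1), (nat_lit 1, nat_lit 0), (nat_lit 31, nat_lit 1), (nat_lit 5, nat_lit 0), (nat_lit 11, nat_lit 1), (nat_lit 35, nat_lit 0), (nat_lit 38, nat_lit 1), (nat_lit 3, nat_lit 0), (nat_lit 13, nat_lit 1), (nat_lit 25, nat_lit 0), (nat_lit 32, nat_lit 1), (nat_lit 2, nat_lit 0), (nat_lit 24, nat_lit 1), (nat_lit 28, nat_lit 0), (nat_lit 30, nat_lit 1), (nat_lit 36, nat_lit 0), (nat_lit 16, nat_lit 0), (nat_lit 6, nat_lit 1), (nat_lit 15, nat_lit 0), (nat_lit 26, nat_lit 0), (nat_lit 27, nat_lit 1), (nat_lit 19, nat_lit 0), (nat_lit 21, nat_lit 0), (nat_lit 14, nat_lit 1), (nat_lit 29, nat_lit 1), (nat_lit 23, nat_lit 1), (nat_lit 17, nat_lit 0), (nat_lit 8, nat_lit 1), (nat_lit 20, nat_lit 0), (nat_lit 34, nat_lit 0), (nat_lit 12, nat_lit 0), (nat_lit 33, nat_lit 0), (nat_lit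 22, nat_lit 1), (nat_lit 39, nat_lit 1)],
    [[nat_lit 2, nat_lit 2, nat_lit 0, nat_lit 2, nat_lit 2, nat_lit 2, nat_lit 2, nat_lit 2, nat_lit 0], [nat_lit 2, nat_lit 2, nat_lit 4, nat_lit 4, nat_lit 2, nat_lit 2, nat_lit 2, nat_lit 4, nat_lit 2, nat_lit 4]],
    [nat_lit 0x64469758334e6059664dd1ca1958de06285008844c2df3e09e451c4896c0, nat_lit 0x60c1cf41a04b4a489c08a1899e620d1544ce7a36c45a58557510e065f5c0]⟩
def certL1 : Lev := ⟨nat_lit 1, nat_lit 0xb6ef9ea6ee, (.node (nat_lit 20) (.node (nat_lit 9) (.node (nat_lit 5) (.node (nat_lit 2) (.leaf (nat_lit 0x9e69648e28607de75c6da6585d65544d24503ce34c2ca2481c61440c2040)) (.node (nat_lit 3) (.leaf (nat_lit 0x44b9583060908597440da8874d538f9ca5e348816099491625e6dc3417c0)) (.leaf (nat_lit 0x6cb74242728c4d76a67a550634e8d89091c81568957036607d28440513c0)))) (.node (nat_lit 6) (.leaf (nat_lit 0x34b75f3173d04676a68a54996d68091d89150ce7887051a3094044853280)) (.node (nat_lit 7) (.leaf (nat_lit 0x3dc94521f19578276661a84d28c8d34915165d024e1276e00c11cb922640))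 (.leaf (nat_lit 0x1667618134a35d168b1a52a20d542424760e34865611b78c04f7dc0a7500))))) (.node (nat_lit 15) (.node (nat_lit 10) (.leaf (nat_lit 0x24475e38a5d650f69c7e546160c55b0cd1639100a098704889364b1929c0)) (.node (nat_lit 13) (.leaf (nat_lit 0x69c28521b0d57421d662284d9231064917d05e69cb30150e4c97a094f640)) (.leaf (nat_lit 0x7cc6494254cb0c64843d85c21dc3a17856e05150668dd45668d8889ca900)))) (.node (nat_lit 18) (.node (nat_lit 17) (.leaf (nat_lit 0x89c69354d1481db94b9dd25478e3197c60a30565e09a14904583c42a40c0)) (.leaf (nat_lit 0x28c9c241d6cb8970e625f90f64481151e0481564dc55a36396148e1d8180))) (.node (nat_lit 19) (.leaf (nat_lit 0x44848655d1dc8546040d96d30a638f9c189026028b31a91695e5e33457c0)) (.leaf (nat_lit 0x64469758334e6059664dd1ca1958de06285008844c2df3e09e451c4896c0)))))) (.node (nat_lit 30) (.node (nat_lit 25) (.node (nat_lit 23) (.leaf (nat_lit 0xa669481892314994429d3517cc5818a17951903c87194ce49b9cb5c31c0)) (.node (nat_lit 24) (.leaf (nat_lit 0x84b68a32425034795c49d0e706320265f1968a050e11e5d53c54e645b600))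 (.leaf (nat_lit 0x8608a48e59e635e29c4874c124420265b0d03ce7cb31d5d5685196454600)))) (.node (nat_lit 27) (.node (nat_lit 26) (.leaf (nat_lit 0x34e0d759a6444457e68a705b3dc8091d349008860b3251a375491585e280)) (.leaf (nat_lit 0x34b4d742264c4456d63c125469c3a77864a60886208ca0c41df95585d900))) (.node (nat_lit 29) (.leaf (nat_lit 0x1dc7465524482946840659df9235856c335026084c2d808e6577a688f4c0)) (.leaf (nat_lit 0xd56d121a79c9cd04b6530855043076173e084e9268e589074a2567c6480))))) (.node (nat_lit 34) (.node (nat_lit 31) (.leaf (nat_lit 0x48495b5a178e64174b1da0855203272973d54e39087110d035f266606880)) (.node (nat_lit 33) (.leaf (nat_lit 0x4d61c91117ce0468a064a69d1488de6259d05150cb30d3e686409c6d7480)) (.leaf (nat_lit 0x60c1cf41a04b4a489c08a1899e620d1544ce7a36c45a58557510e065f5c0)))) (.node (nat_lit 37) (.node (nat_lit 36) (.leaf (nat_lit 0x50494d3818961a174b91a7c34a34173e72884601d571314c6c2626259780)) (.leaf (nat_lit 0xe67418d15209d368b6653de1483076242566d518e10d89084a09c7d7480)))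 (.node (nat_lit 39) (.leaf (nat_lit 0x89604d3a55041e14cb9db3de1663197e424846019c55d4906980a32970c0)) (.leaf (nat_lit 0x4b68f40760c6e495c51d15786055f18264e7a34961229c82834664cd240)))))))⟩
def certC1 : LevCert := ⟨certL1,
    [(nat_lit 19, nat_lit 0), (nat_lit 33, nat_lit 1), (nat_lit 27, nat_lit 0), (nat_lit 17, nat_lit 1), (nat_lit 9, nat_lit 1), (nat_lit 13, nat_lit 1), (nat_lit 6, nat_lit 1), (nat_lit 2, nat_lit 0), (nat_lit 24, nat_lit 1), (nat_lit 20, nat_lit 1), (nat_lit 23, nat_lit 0), (nat_lit 25, nat_lit 1), (nat_lit 15, nat_lit 0), (nat_lit 31, nat_lit 0), (nat_lit 39, nat_lit 1), (nat_lit 5, nat_lit 0), (nat_lit 18, nat_lit 1), (nat_lit 36, nat_lit 0), (nat_lit 3, nat_lit 1), (nat_lit 10, nat_lit 0), (nat_lit 7, nat_lit 0), (nat_lit 30, nat_lit 0), (nat_lit 34, nat_lit 0), (nat_lit 26, nat_lit 1), (nat_lit 37, nat_lit 1), (nat_lit 29, nat_lit 1)],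
    [[nat_lit 2, nat_lit 2, nat_lit 2, nat_lit 2, nat_lit 0, nat_lit 2, nat_lit 0, nat_lit 2, nat_lit 0, nat_lit 0, nat_lit 2, nat_lit 2], [nat_lit 2, nat_lit 4, nat_lit 4, nat_lit 2, nat_lit 4, nat_lit 2, nat_lit 2, nat_lit 2]],
    [nat_lit 0x79c1c95515c89068a06ca7c394b8d84e714451008e58d66685274c3da040, nat_lit 0x9ce3e259d6047ca91c6de15784b5544c26601cc4a68da2489464500cd040]⟩
def certL2 : Lev := ⟨nat_lit 2, nat_lit 0x8044042444, (.node (nat_lit 18) (.node (nat_lit 10) (.node (nat_lit 6) (.leaf (nat_lit 0x9e69648e28607de75c6da6585d65544d24503ce34c2ca2481c61440c2040)) (.leaf (nat_lit 0x29c9495598488867446da7c33e35974e745052034c2d214e6029261de040))) (.node (nat_lit 13) (.leaf (nat_lit 0x1a08598c59662524486cd90f1d65434de74c6046902c27dc5e788e50a040)) (.leaf (nat_lit 0x79c1c95515c89068a06ca7c394b8d84e714451008e58d66685274c3da040)))) (.node (nat_lit 30) (.node (nat_lit 26) (.leaf (nat_lit 0x9ce3e259d6047ca91c6de15784b5544c26601cc4a68da2489464500cd040)) (.leaf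 (nat_lit 0x4885df55d1dc6671666c225484b8cf4c688e0cc28459a92095e45060d040))) (.node (nat_lit 39) (.leaf (nat_lit 0x1846055913ce2426486d288794b5434ca9265d07a08cd7dc86774c51a040)) (.leaf (nat_lit 0x8885f56495c16744e6cd2546235874c674c0e66902de8843ca6605d2040)))))⟩
def certC2 : LevCert := ⟨certL2,
    [(nat_lit 13, nat_lit 0), (nat_lit 18, nat_lit 1), (nat_lit 10, nat_lit 0), (nat_lit 6, nat_lit 0), (nat_lit 26, nat_lit 0), (nat_lit 30, nat_lit 1), (nat_lit 39, nat_lit 0)],
    [[nat_lit 0, nat_lit 0, nat_lit 2, nat_lit 2, nat_lit 0, nat_lit 0, nat_lit 0, nat_lit 0, nat_lit 0]],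
    [nat_lit 0x34861f5623dc46764c6d22545d62e54c69260ce7a08ca7501da144842040]⟩
def certL3 : Lev := ⟨nat_lit 3, nat_lit 0x200008008, (.node (nat_lit 15) (.leaf (nat_lit 0x9e69648e28607de75c6da6585d65544d24503ce34c2ca2481c61440c2040)) (.node (nat_lit 33) (.leaf (nat_lit 0x34861f5623dc46764c6d22545d62e54c69260ce7a08ca7501da144842040)) (.leaf (nat_lit 0x7905112e20cc90d2606c67655d68d84da7c884e9dc54a6661d21443c2040))))⟩
def certC3 : LevCert := ⟨certL3,
    [(nat_lit 15, nat_lit 0), (nat_lit 33, nat_lit 0)],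
    [],
    []⟩
def cert : List LevCert := [certC0, certC1, certC2, certC3]
def certL : List Lev := [certL0, certL1, certL2, certL3]
/-- the numbering of the points -/
abbrev E : Enc (Fin 40) 40 6 64 := finEnc 40 6 64 rfl (by decide)
theorem ok : modelOK F3 4 40 6 64 VT R true gs cert 25920 = true := by
  decide +kernel

/-- the permutation group -/
abbrev K : Subgroup (Equiv.Perm (Fin 40)) := E.grp gens

theorem model {F : Type*} [Field F] [Fintype F] (hF : Fintype.card F = 3) (ι : TF F3 →+* F) :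
    ∃ φ, IsModel E (Matrix.symplecticGroup (Fin 2) F).subtype (ptv ι finSumFinEquiv E VT) true (Subgroup.center _) gens certL φ :=
  model_PSp ι E hF (m := 2) (by decide) ok (by decide +kernel) (by decide +kernel)

theorem equiv {F : Type*} [Field F] [Fintype F] (hF : Fintype.card F = 3) : Nonempty (PSp 2 F ≃* K) :=
  let ⟨ι, _⟩ := exists_hom F3 hF; let ⟨_, h⟩ := model hF ι; h.equiv_quot

theorem chain : E.IsChain certL K := let ⟨_, h⟩ := model (TF.card F3) (RingHom.id _); h.chain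

theorem card : Nat.card K = 25920 := chain.card.trans (modelOK_card ok)

def c1a : Cls := ⟨nat_lit 0x9e69648e28607de75c6da6585d65544d24503ce34c2ca2481c61440c2040, 25920, [nat_lit 0xffffffffff, nat_lit 0xb6ef9ea6ee, nat_lit 0x8044042444, nat_lit 0x200008008]⟩
def c2a : Cls := ⟨nat_lit 0x7667d48134a39499d52833515d67248a161018464b31b78804f14e6821c0, 576, [nat_lit 0x4000c10125, nat_lit 0xb6ef1ea6ca, nat_lit 4, nat_lit 0x200008008]⟩
def c2b : Cls := ⟨nat_lit 0x16181a2c69a52914874e43502155846dd79830364f8df0977229d4389001, 96, [nat_lit 0xef89699e67, nat_lit 2, nat_lit 0x8000000444, nat_lit 8]⟩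
def c3a : Cls := ⟨nat_lit 0x70f3648e26987e075401065e2965674e64614873252c424308815718e6c1, 648, [nat_lit 0xe35d95f5df, nat_lit 2, nat_lit 0x8044042444, nat_lit 0x200008008]⟩
def c3b : Cls := ⟨nat_lit 0x9d84668ce74f21e3036da82489655f0124256573612ca7141461072424c1, 648, [nat_lit 0x77b39bd3bb, nat_lit 2, nat_lit 0x8044042444, nat_lit 0x200008008]⟩
def c3c : Cls := ⟨nat_lit 0x35490854e6434278216d271f8962d100699825778f8ca32515a1077424c1, 108, [nat_lit 0x8c44ac68f3, nat_lit 2, nat_lit 0x404, nat_lit 0x200008008]⟩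
def c3d : Cls := ⟨nat_lit 0x7a57d02ce26198d70f6c63118968e401a2147579c354a8181521076424c1, 54, [nat_lit 0x4008840b3, nat_lit 2, nat_lit 0x404, nat_lit 0x200008008]⟩
def c4a : Cls := ⟨nat_lit 0x3ce44159d60479334b1611ca7e64145e26556e349c21a24c9469e0903080, 48, [nat_lit 0x100241, nat_lit 0x90c888802e, nat_lit 4, nat_lit 8]⟩
def c4b : Cls := ⟨nat_lit 0x38f42761e92314935711d3117e559b89a8152214835194c798070b286081, 8, [nat_lit 0x40000081c7, nat_lit 2, nat_lit 4, nat_lit 8]⟩
def c5a : Cls := ⟨nat_lit 0x2579935a07c79c07a311914a41461188e70b6d51a195230f91a34321d081, 5, [nat_lit 0x60000007, nat_lit 2, nat_lit 4, nat_lit 8]⟩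
def c6a : Cls := ⟨nat_lit 0x18f7608c44587124146cd99915654901e3219076a52c22038a73977ca4c1, 72, [nat_lit 0x80003, nat_lit 2, nat_lit 0x8044042444, nat_lit 0x200008008]⟩
def c6b : Cls := ⟨nat_lit 0x64344d51321579d30b11a82429695f8929cf4172636007216c614798e081, 72, [nat_lit 0xb9f3b27e07, nat_lit 2, nat_lit 4, nat_lit 0x200008008]⟩
def c6c : Cls := ⟨nat_lit 0x35910f8d43a49525dd6ca6202152d005e1c599f0a25a785171a0c9306013, 36, [nat_lit 0x680803, nat_lit 2, nat_lit 0x8004002444, nat_lit 8]⟩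
def c6d : Cls := ⟨nat_lit 0x68365c5449143069a56de2091562dd02780f7c74988c242188d39744a4c1, 36, [nat_lit 0x800280803, nat_lit 2, nat_lit 0x404, nat_lit 0x200008008]⟩
def c6e : Cls := ⟨nat_lit 0x4a124c2c47e581a2186e741d1568d900d70344719454298f89e39790a4c1, 18, [nat_lit 0x80003, nat_lit 2, nat_lit 0x404, nat_lit 0x200008008]⟩
def c6f : Cls := ⟨nat_lit 0x75721359c4473409d510914a9a552488e3236cb68f6068037d27a1419081, 12, [nat_lit 0x284241012f, nat_lit 2, nat_lit 4, nat_lit 8]⟩
def c9a : Cls := ⟨nat_lit 0x65741358c90778034b11d14a21895f88e8156e348351a7214469cf989081, 9, [nat_lit 0xd0100a07, nat_lit 2, nat_lit 4, nat_lit 8]⟩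
def c9b : Cls := ⟨nat_lit 0x4588c73138223d90a40da48b2153967ca95740615d99436171e25b101027, 9, [nat_lit 0xa820021007, nat_lit 2, nat_lit 4, nat_lit 8]⟩
def c12a : Cls := ⟨nat_lit 0x82365160a18f90c98389e20901651d0a77cb68772194541538d6d7493101, 12, [nat_lit 0x800013, nat_lit 2, nat_lit 4, nat_lit 0x200008008]⟩
def c12b : Cls := ⟨nat_lit 0x9825b8df28f1132159277a644750d49914b0163a585c74319031789a801, 12, [nat_lit 0x100008003, nat_lit 2, nat_lit 0x8004000004, nat_lit 8]⟩
def cl : List Cls := [c1a, c2a, c2b, c3a, c3b, c3c, c3d, c4a, c4b, c5a, c6a, c6b, c6c, c6d, c6e, c6f, c9a, c9b, c12a, c12b]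
theorem cl_ok : allL cl (clsOK 6 64 40 certL 0) = true := by decide +kernel
theorem cl_pairs : pairsOK 6 64 40 certL 0 cl = true := by decide +kernel
/-- the conjugacy classes -/
theorem classes : E.ClassList K cl :=
  chain.classList (E.fixes_zero K) (allL_iff.1 cl_ok) cl_pairs card (by decide +kernel)

end Cfsg.Agent.H56.S43
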