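/-
PSL(3,4) on 21 points (generated by tools_h56/model.py).
-/
import Cfsg.Agent.H56.ClassModel
import Cfsg.Agent.H56.Fields
import Cfsg.Agent.H56.IsoK

set_option autoImplicit false

namespace Cfsg.Agent.H56.L34

open H14

def VT : ℕ := nat_lit 0x39955744854911275429f59c4dd05b41
def R : BT := (.node (nat_lit 29) (.node (nat_lit 16) (.node (nat_lit 5) (.node (nat_lit 4) (.leaf (nat_lit 0)) (.leaf (nat_lit 16))) (.node (nat_lit 9) (.leaf (nat_lit 2)) (.node (nat_lit 13) (.leaf (nat_lit 11)) (.leaf (nat_lit 4))))) (.node (nat_lit 20) (.node (nat_lit 17) (.leaf (nat_lit 9)) (.leaf (nat_lit 12))) (.node (nat_lit 21) (.leaf (nat_lit 14)) (.node (nat_lit 25) (.leaf (nat_lit 18)) (.leaf (nat_lit 6)))))) (.node (nat_lit 45) (.node (nat_lit 36) (.node (nat_lit 33) (.leaf (nat_lit 17)) (.leaf (nat_lit 15))) (.node (nat_lit 37) (.leaf (nat_lit 13)) (.node (nat_lit 41) (.leaf (nat_lit 19)) (.leaf (nat_lit 8))))) (.node (nat_lit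 53) (.node (nat_lit 49) (.leaf (nat_lit 1)) (.node (nat_lit 52) (.leaf (nat_lit 5)) (.leaf (nat_lit 3)))) (.node (nat_lit 57) (.leaf (nat_lit 10)) (.node (nat_lit 61) (.leaf (nat_lit 20)) (.leaf (nat_lit 7)))))))
def gs : List (ℕ × ℕ) := [(nat_lit 0xf852, nat_lit 0xf80a696d1128816e628a731061), (nat_lit 0x1c961, nat_lit 0xea1d83918338c14f6ad2801482)]
def gens : List ℕ := [nat_lit 0xf80a696d1128816e628a731061, nat_lit 0xea1d83918338c14f6ad2801482]
def certL0 : Lev := ⟨nat_lit 0, nat_lit 0x1fffff, (.node (nat_lit 10) (.node (nat_lit 5) (.node (nat_lit 2) (.node (nat_lit 1) (.leaf (nat_lit 0x149ca307b9ac5a928398a418820)) (.leaf (nat_lit 0x121968a0b9e760a269c12d5a004))) (.node (nat_lit 3) (.leaf (nat_lit 0x1150de444dd4804cc3c922281ab)) (.node (nat_lit 4) (.leaf (nat_lit 0xea1d83918338c14f6ad2801482)) (.leaf (nat_lit 0xf226532ac6a684e640a00645d4))))) (.node (nat_lit 7) (.node (nat_lit 6) (.leaf (nat_lit 0xaa2201644ef919221cc0d22dc5))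 (.leaf (nat_lit 0xd4920b43dc298634900ac51cc3))) (.node (nat_lit 8) (.leaf (nat_lit 0x1073c649b1b23ad4505041444c9)) (.node (nat_lit 9) (.leaf (nat_lit 0x4515a133d1211e004ae2e9d06c)) (.leaf (nat_lit 0x147b246128709a40d4456e094e4)))))) (.node (nat_lit 15) (.node (nat_lit 12) (.node (nat_lit 11) (.leaf (nat_lit 0xf80a696d1128816e628a731061)) (.leaf (nat_lit 0x1260613590cf009c74a14d2d071))) (.node (nat_lit 13) (.leaf (nat_lit 0x63d1b148c40740a494d8b4282f)) (.node (nat_lit 14) (.leaf (nat_lit 0xe94ceb2c003a28417b226225a8)) (.leaf (nat_lit 0xf6c84a200c982c2874e3419587))))) (.node (nat_lit 18) (.node (nat_lit 16) (.leaf (nat_lit 0x55a642038333a2901aa2f6188d)) (.node (nat_lit 17) (.leaf (nat_lit 0x6736603ac9460e120c54f12505)) (.leaf (nat_lit 0x483c0c91d69722666955418622)))) (.node (nat_lit 19) (.leaf (nat_lit 0x820146745837ae13a0527908ad)) (.node (nat_lit 20) (.leaf (nat_lit 0x7025d021a4d9958ba0d418bc48)) (.leaf (nat_lit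 0x7b92394d8d12964340283c685)))))))⟩
def certC0 : LevCert := ⟨certL0,
    [(nat_lit 10, nat_lit 0), (nat_lit 3, nat_lit 1), (nat_lit 6, nat_lit 0), (nat_lit 9, nat_lit 1), (nat_lit 1, nat_lit 0), (nat_lit 16, nat_lit 1), (nat_lit 14, nat_lit 1), (nat_lit 5, nat_lit 1), (nat_lit 13, nat_lit 1), (nat_lit 19, nat_lit 0), (nat_lit 8, nat_lit 0), (nat_lit 20, nat_lit 1), (nat_lit 2, nat_lit 1), (nat_lit 15, nat_lit 0), (nat_lit 7, nat_lit 1), (nat_lit 17, nat_lit 0), (nat_lit 12, nat_lit 1), (nat_lit 4, nat_lit 1), (nat_lit 18, nat_lit 0), (nat_lit 11, nat_lit 0)],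
    [[nat_lit 0, nat_lit 0, nat_lit 2, nat_lit 0, nat_lit 2, nat_lit 0, nat_lit 2, nat_lit 2, nat_lit 0, nat_lit 0], [nat_lit 4, nat_lit 2, nat_lit 4, nat_lit 2, nat_lit 4, nat_lit 4, nat_lit 2, nat_lit 4]],
    [nat_lit 0x838dc98aa4d7ae613428513080, nat_lit 0xa19432a30cd70a2f4ae6782080]⟩
def certL1 : Lev := ⟨nat_lit 1, nat_lit 0x1ffffe, (.node (nat_lit 11) (.node (nat_lit 6) (.node (nat_lit 3) (.node (nat_lit 2) (.leaf (nat_lit 0x149ca307b9ac5a928398a418820)) (.leaf (nat_lit 0xb1508343612531d19bce6484a0))) (.node (nat_lit 4) (.leaf (nat_lit 0x119a5ae232904284578d670c8c0)) (.node (nat_lit 5) (.leaf (nat_lit 0x54b5e65c58253a1499c8190d00)) (.leaf (nat_lit 0x48316753c43744c54cc286ca80))))) (.node (nat_lit 8) (.node (nat_lit 7) (.leaf (nat_lit 0x146be68216307184c4857219d40)) (.leaf (nat_lit 0x890cf3119cb6bc8a0b2112d120))) (.node (nat_lit 9) (.leaf (nat_lit 0x838dc98aa4d7ae613428513080)) (.node (nat_lit 10) (.leaf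 (nat_lit 0x284c8553566620348b86993ce0)) (.leaf (nat_lit 0xc49cb45c9f068488728531c4c0)))))) (.node (nat_lit 16) (.node (nat_lit 13) (.node (nat_lit 12) (.leaf (nat_lit 0x45a04363a050d127945ea69a60)) (.leaf (nat_lit 0x87164d1bce1a10c962d5114e00))) (.node (nat_lit 14) (.leaf (nat_lit 0xa31c6ba483323da87323028920)) (.node (nat_lit 15) (.leaf (nat_lit 0x870e44284ef5b526551828c260)) (.leaf (nat_lit 0xf4c191088a6a38645c953434e0))))) (.node (nat_lit 18) (.node (nat_lit 17) (.leaf (nat_lit 0x148c9a12226b532077144379920)) (.leaf (nat_lit 0xa19432a30cd70a2f4ae6782080))) (.node (nat_lit 19) (.leaf (nat_lit 0x116868c20e627c96a33a0939500)) (.node (nat_lit 20) (.leaf (nat_lit 0xa0acc98c074649a41226f714e0)) (.leaf (nat_lit 0x13095372c728bce482514634a0)))))))⟩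
def certC1 : LevCert := ⟨certL1,
    [(nat_lit 8, nat_lit 0), (nat_lit 17, nat_lit 1), (nat_lit 20, nat_lit 0), (nat_lit 2, nat_lit 1), (nat_lit 15, nat_lit 0), (nat_lit 9, nat_lit 1), (nat_lit 5, nat_lit 0), (nat_lit 3, nat_lit 0), (nat_lit 10, nat_lit 1), (nat_lit 11, nat_lit 0), (nat_lit 16, nat_lit 0), (nat_lit 7, nat_lit 1), (nat_lit 4, nat_lit 0), (nat_lit 18, nat_lit 1), (nat_lit 19, nat_lit 1), (nat_lit 14, nat_lit 0), (nat_lit 6, nat_lit 1), (nat_lit 13, nat_lit 0), (nat_lit 12, nat_lit 0)],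
    [[nat_lit 0, nat_lit 2, nat_lit 0, nat_lit 2, nat_lit 0, nat_lit 2, nat_lit 0, nat_lit 0, nat_lit 2, nat_lit 2, nat_lit 2, nat_lit 0, nat_lit 0, nat_lit 0, nat_lit 0, nat_lit 2], [nat_lit 4, nat_lit 2, nat_lit 4, nat_lit 2, nat_lit 2, nat_lit 2, nat_lit 4, nat_lit 2, nat_lit 4, nat_lit 2, nat_lit 4, nat_lit 2, nat_lit 4, nat_lit 4, nat_lit 2], [nat_lit 4, nat_lit 4, nat_lit 4, nat_lit 6, nat_lit 4, nat_lit 4, nat_lit 4, nat_lit 6, nat_lit 4, nat_lit 4, nat_lit 6, nat_lit 6, nat_lit 6, nat_lit 4]],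
    [nat_lit 0x105d0922cc4f7192d88d8752020, nat_lit 0xc2c5eb9512e20d0d9a8f030820, nat_lit 0x9649f411ca469a0e40d7354420]⟩
def certL2 : Lev := ⟨nat_lit 2, nat_lit 0x1ffbb4, (.node (nat_lit 13) (.node (nat_lit 8) (.node (nat_lit 5) (.node (nat_lit 4) (.leaf (nat_lit 0x149ca307b9ac5a928398a418820)) (.leaf (nat_lit 0x12425d0994ed21a8f60e2252c20))) (.node (nat_lit 7) (.leaf (nat_lit 0x123d109235cb62a119984f19420)) (.leaf (nat_lit 0x92c192691f142a8b11a6e19c20)))) (.node (nat_lit 11) (.node (nat_lit 9) (.leaf (nat_lit 0x12740f462d0598d22229f133420)) (.leaf (nat_lit 0x579d938492b8984870c9453420))) (.node (nat_lit 12) (.leaf (nat_lit 0x97d0b04458710e536a9cb31020)) (.leaf (nat_lit 0x146a6725b22238e057a88833820))))) (.node (nat_lit 17) (.node (nat_lit 15) (.node (nat_lit 14) (.leaf (nat_lit 0x105d0922cc4f7192d88d8752020)) (.leaf (nat_lit 0x148c1a938a6e79a4458d0553020))) (.node (nat_lit 16) (.leaf (nat_lit 0x9649f411ca469a0e40d7354420))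 (.leaf (nat_lit 0x771502a265159a6c78db051020)))) (.node (nat_lit 19) (.node (nat_lit 18) (.leaf (nat_lit 0x45bc4d926079a9c5619141c420)) (.leaf (nat_lit 0x740a53791c9a0cb05a98d34420))) (.node (nat_lit 20) (.leaf (nat_lit 0x101257473c888aa4c298ed1cc20)) (.leaf (nat_lit 0x224d674d20c418b168df253820))))))⟩
def certC2 : LevCert := ⟨certL2,
    [(nat_lit 13, nat_lit 0), (nat_lit 15, nat_lit 2), (nat_lit 8, nat_lit 0), (nat_lit 11, nat_lit 2), (nat_lit 12, nat_lit 0), (nat_lit 17, nat_lit 1), (nat_lit 9, nat_lit 1), (nat_lit 7, nat_lit 2), (nat_lit 19, nat_lit 0), (nat_lit 16, nat_lit 1), (nat_lit 5, nat_lit 2), (nat_lit 20, nat_lit 1), (nat_lit 18, nat_lit 1), (nat_lit 4, nat_lit 0), (nat_lit 14, nat_lit 2)],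
    [[nat_lit 2]],
    [nat_lit 0xc2c5eb9512e20d0d9a8f030820]⟩
def certL3 : Lev := ⟨nat_lit 3, nat_lit 0x448, (.node (nat_lit 6) (.leaf (nat_lit 0x149ca307b9ac5a928398a418820)) (.node (nat_lit 10) (.leaf (nat_lit 0xe3be448b114819a928e6b50820)) (.leaf (nat_lit 0xc2c5eb9512e20d0d9a8f030820))))⟩
def certC3 : LevCert := ⟨certL3,
    [(nat_lit 10, nat_lit 0), (nat_lit 6, nat_lit 0)],
    [],
    []⟩
def cert : List LevCert := [certC0, certC1, certC2, certC3]
def certL : List Lev := [certL0, certL1, certL2, certL3]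
/-- the numbering of the points -/
abbrev E : Enc (Fin 21) 21 5 32 := finEnc 21 5 32 rfl (by decide)
theorem ok : modelOK F4 3 21 5 32 VT R true gs cert 20160 = true := by
  decide +kernel

/-- the permutation group -/
abbrev K : Subgroup (Equiv.Perm (Fin 21)) := E.grp gens

theorem model {F : Type*} [Field F] [Fintype F] (hF : Fintype.card F = 4) (ι : TF F4 →+* F) :
    ∃ φ, IsModel E (slToMat 3 F) (ptv ι (Equiv.refl _) E VT) true (Subgroup.center _) gens certL φ :=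
  model_PSL ι E hF (m := 34) (by decide) ok (by decide +kernel) (by decide +kernel)

theorem equiv {F : Type*} [Field F] [Fintype F] (hF : Fintype.card F = 4) : Nonempty (Matrix.ProjectiveSpecialLinearGroup (Fin 3) F ≃* K) :=
  let ⟨ι, _⟩ := exists_hom F4 hF; let ⟨_, h⟩ := model hF ι; h.equiv_quot

theorem chain : E.IsChain certL K := let ⟨_, h⟩ := model (TF.card F4) (RingHom.id _); h.chain

theorem card : Nat.card K = 20160 := chain.card.trans (modelOK_card ok)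

def c1a : Cls := ⟨nat_lit 0x149ca307b9ac5a928398a418820, 20160, [nat_lit 0x1fffff, nat_lit 0x1ffffe, nat_lit 0x1ffbb4, nat_lit 0x448]⟩
def c2a : Cls := ⟨nat_lit 0x43be2e9412b619a89a8b418801, 64, [nat_lit 0x1dfed3, nat_lit 2, nat_lit 0x20124, nat_lit 8]⟩
def c3a : Cls := ⟨nat_lit 0x1382d143c9e97008569a2c18941, 9, [nat_lit 0x2a5a3, nat_lit 2, nat_lit 4, nat_lit 8]⟩
def c4a : Cls := ⟨nat_lit 0x11228f058d259b1a03524f72041, 16, [nat_lit 0x1e9df7, nat_lit 2, nat_lit 4, nat_lit 8]⟩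
def c4b : Cls := ⟨nat_lit 0x353c09920c53b973831a4a4441, 16, [nat_lit 0xb7fe7, nat_lit 2, nat_lit 4, nat_lit 8]⟩
def c4c : Cls := ⟨nat_lit 0x8950ea4c5c5091f36c18658c40, 16, [nat_lit 1, nat_lit 0x1f6dde, nat_lit 4, nat_lit 8]⟩
def c5a : Cls := ⟨nat_lit 0xb650e549270885cf929a830803, 5, [nat_lit 0x44b, nat_lit 2, nat_lit 4, nat_lit 8]⟩
def c5b : Cls := ⟨nat_lit 0x61c8088b5479d0855b93063c41, 5, [nat_lit 0x28007, nat_lit 2, nat_lit 4, nat_lit 8]⟩
def c7a : Cls := ⟨nat_lit 0x489928280eb7b243551b374041, 7, [nat_lit 0x1410f, nat_lit 2, nat_lit 4, nat_lit 8]⟩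
def c7b : Cls := ⟨nat_lit 0x8792666c605052474b96a60c41, 7, [nat_lit 0x182f, nat_lit 2, nat_lit 4, nat_lit 8]⟩
def cl : List Cls := [c1a, c2a, c3a, c4a, c4b, c4c, c5a, c5b, c7a, c7b]
theorem cl_ok : allL cl (clsOK 5 32 21 certL 0) = true := by decide +kernel
theorem cl_pairs : pairsOK 5 32 21 certL 0 cl = true := by decide +kernel
/-- the conjugacy classes -/
theorem classes : E.ClassList K cl :=
  chain.classList (E.fixes_zero K) (allL_iff.1 cl_ok) cl_pairs card (by decide +kernel)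

end Cfsg.Agent.H56.L34
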