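/-
The 6-dimensional representation of G2(4) (generated by tools_h56/chev.py).
-/
import Cfsg.Agent.H56.RepTools
import Cfsg.Agent.H56.Fields
import Cfsg.Agent.S1055
import Cfsg.Agent.S1059
import Cfsg.Agent.S1078

set_option autoImplicit false

namespace Cfsg.Agent.H56.G24R

open H14

def tab : BT := (.node (nat_lit 24) (.node (nat_lit 12) (.node (nat_lit 6) (.node (nat_lit 3) (.node (nat_lit 1) (.leaf (nat_lit 0x400100040010004001)) (.node (nat_lit 2) (.leaf (nat_lit 0x404101040010004001)) (.leaf (nat_lit 0x408102040010004001)))) (.node (nat_lit 4) (.leaf (nat_lit 0x40c103040010004001)) (.node (nat_lit 5) (.leaf (nat_lit 0x400100040010004001)) (.leaf (nat_lit 0x410100041010004001))))) (.node (nat_lit 9) (.node (nat_lit 7) (.leaf (nat_lit 0x420100042010004001)) (.node (nat_lit 8) (.leaf (nat_lit 0x430100043010004001)) (.leaf (nat_lit 0x400100040010004001)))) (.node (nat_lit 10) (.leaf (nat_lit 0x401110044010004001)) (.node (nat_lit 11) (.leaf (nat_lit 0x403120048010004001)) (.leaf (nat_lit 0x40213004c010004001))))))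 (.node (nat_lit 18) (.node (nat_lit 15) (.node (nat_lit 13) (.leaf (nat_lit 0x400100040010004001)) (.node (nat_lit 14) (.leaf (nat_lit 0x440104040011004001)) (.leaf (nat_lit 0x48010c040012004001)))) (.node (nat_lit 16) (.leaf (nat_lit 0x4c0108040013004001)) (.node (nat_lit 17) (.leaf (nat_lit 0x400100040010004001)) (.leaf (nat_lit 0x500100050010005001))))) (.node (nat_lit 21) (.node (nat_lit 19) (.leaf (nat_lit 0x600100070010006001)) (.node (nat_lit 20) (.leaf (nat_lit 0x700100060010007001)) (.leaf (nat_lit 0x400100040010004001)))) (.node (nat_lit 22) (.leaf (nat_lit 0x400140040014004001)) (.node (nat_lit 23) (.leaf (nat_lit 0x400180040018004001)) (.leaf (nat_lit 0x4001c004001c004001))))))) (.node (nat_lit 36) (.node (nat_lit 30) (.node (nat_lit 27) (.node (nat_lit 25) (.leaf (nat_lit 0x400100040010004001)) (.node (nat_lit 26) (.leaf (nat_lit 0x400100140010014001)) (.leaf (nat_lit 0x400100240010024001)))) (.node (nat_lit 28) (.leaf (nat_lit 0x400100340010034001)) (.node (nat_lit 29) (.leaf (nat_lit 0x400100040010004001))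 (.leaf (nat_lit 0x400500040050004005))))) (.node (nat_lit 33) (.node (nat_lit 31) (.leaf (nat_lit 0x4009000400d0004009)) (.node (nat_lit 32) (.leaf (nat_lit 0x400d0004009000400d)) (.leaf (nat_lit 0x400100040010004001)))) (.node (nat_lit 34) (.leaf (nat_lit 0x400100440010104011)) (.node (nat_lit 35) (.leaf (nat_lit 0x400100840010304021)) (.leaf (nat_lit 0x400100c40010204031)))))) (.node (nat_lit 42) (.node (nat_lit 39) (.node (nat_lit 37) (.leaf (nat_lit 0x400100040010004001)) (.node (nat_lit 38) (.leaf (nat_lit 0x400100040110044401)) (.leaf (nat_lit 0x400100040210084c01)))) (.node (nat_lit 40) (.leaf (nat_lit 0x4001000403100c4801)) (.node (nat_lit 41) (.leaf (nat_lit 0x400100040010004001)) (.leaf (nat_lit 0x400100040410004041))))) (.node (nat_lit 45) (.node (nat_lit 43) (.leaf (nat_lit 0x400100040810004081)) (.node (nat_lit 44) (.leaf (nat_lit 0x400100040c100040c1)) (.leaf (nat_lit 0x400100040010004001)))) (.node (nat_lit 46) (.leaf (nat_lit 0x400100040010404101)) (.node (nat_lit 47) (.leaf (nat_lit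 0x400100040010804201)) (.leaf (nat_lit 0x400100040010c04301))))))))
theorem st0 : stOK F4 (mmT F4 6) (mid F4.b 6) tab Lie.chevG2 0 = true := by decide +kernel
theorem st1 : stOK F4 (mmT F4 6) (mid F4.b 6) tab Lie.chevG2 1 = true := by decide +kernel
theorem st2 : stOK F4 (mmT F4 6) (mid F4.b 6) tab Lie.chevG2 2 = true := by decide +kernel
theorem st3 : stOK F4 (mmT F4 6) (mid F4.b 6) tab Lie.chevG2 3 = true := by decide +kernel
theorem st4 : stOK F4 (mmT F4 6) (mid F4.b 6) tab Lie.chevG2 4 = true := by decide +kernel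
theorem st5 : stOK F4 (mmT F4 6) (mid F4.b 6) tab Lie.chevG2 5 = true := by decide +kernel
theorem st6 : stOK F4 (mmT F4 6) (mid F4.b 6) tab Lie.chevG2 6 = true := by decide +kernel
theorem st7 : stOK F4 (mmT F4 6) (mid F4.b 6) tab Lie.chevG2 7 = true := by decide +kernel
theorem st8 : stOK F4 (mmT F4 6) (mid F4.b 6) tab Lie.chevG2 8 = true := by decide +kernel
theorem st9 : stOK F4 (mmT F4 6) (mid F4.b 6) tab Lie.chevG2 9 = true := by decide +kernel
theorem st10 : stOK F4 (mmT F4 6) (mid F4.b 6) tab Lie.chevG2 10 = true := by decide +kernel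
theorem st11 : stOK F4 (mmT F4 6) (mid F4.b 6) tab Lie.chevG2 11 = true := by decide +kernel
noncomputable abbrev el (w : List (ℕ × ℕ)) := chevEl H39.memG2 F4 w
noncomputable abbrev cd (w : List (ℕ × ℕ)) := wordC F4 (mmT F4 6) (mid F4.b 6) tab (wd F4 w)
abbrev mat (X : ℕ) : Matrix (Fin 6) (Fin 6) (TF F4) := matOf (RingHom.id _) (Equiv.refl _) X

theorem rep : ∃ φ : Lie.chevG2.group (TF F4) →* GL (Fin 6) (TF F4), ∀ w, wdOK 12 w = true →
    (φ (el w) : Matrix _ _ _) = mat (cd w) :=
  rep_chev H39.memG2 (S1078.result _ (by simp)) _ _ 1 (by decide +kernel) fun r hr => by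
    have hr' : r < 12 := hr
    interval_cases r
    exacts [st0, st1, st2, st3, st4, st5, st6, st7, st8, st9, st10, st11]

theorem card : Nat.card (Lie.chevG2.group (TF F4)) = 251596800 :=
  (S1059.result (TF.card F4)).trans (by norm_num [F4])

end Cfsg.Agent.H56.G24R
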