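/-
PSU(4,2) on 40 points (generated by tools_h56/model.py).
-/
import Cfsg.Agent.H56.ClassModel
import Cfsg.Agent.H56.Fields
import Cfsg.Agent.H56.IsoK

set_option autoImplicit false

namespace Cfsg.Agent.H56.U42

open H14

def VT : ℕ := nat_lit 0x64f42d74d119a4b151393d91f115712545c54d8dcd1dc9853561e18994a1b44940d40454e4290110
def R : BT := (.node (nat_lit 113) (.node (nat_lit 57) (.node (nat_lit 29) (.node (nat_lit 16) (.node (nat_lit 4) (.leaf (nat_lit 1)) (.leaf (nat_lit 5))) (.node (nat_lit 21) (.leaf (nat_lit 0)) (.node (nat_lit 25) (.leaf (nat_lit 26)) (.leaf (nat_lit 34))))) (.node (nat_lit 41) (.node (nat_lit 37) (.leaf (nat_lit 18)) (.leaf (nat_lit 24))) (.node (nat_lit 45) (.leaf (nat_lit 2)) (.node (nat_lit 53) (.leaf (nat_lit 37)) (.leaf (nat_lit 15)))))) (.node (nat_lit 77) (.node (nat_lit 64) (.node (nat_lit 61) (.leaf (nat_lit 30)) (.leaf (nat_lit 29))) (.node (nat_lit 69) (.leaf (nat_lit 7)) (.node (nat_lit 73) (.leaf (nat_lit 23)) (.leaf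 (nat_lit 8))))) (.node (nat_lit 84) (.node (nat_lit 81) (.leaf (nat_lit 21)) (.leaf (nat_lit 31))) (.node (nat_lit 97) (.leaf (nat_lit 4)) (.node (nat_lit 100) (.leaf (nat_lit 14)) (.leaf (nat_lit 39))))))) (.node (nat_lit 180) (.node (nat_lit 145) (.node (nat_lit 133) (.node (nat_lit 116) (.leaf (nat_lit 25)) (.leaf (nat_lit 36))) (.node (nat_lit 137) (.leaf (nat_lit 16)) (.node (nat_lit 141) (.leaf (nat_lit 12)) (.leaf (nat_lit 20))))) (.node (nat_lit 161) (.node (nat_lit 148) (.leaf (nat_lit 28)) (.leaf (nat_lit 11))) (.node (nat_lit 164) (.leaf (nat_lit 10)) (.node (nat_lit 177) (.leaf (nat_lit 33)) (.leaf (nat_lit 32)))))) (.node (nat_lit 212) (.node (nat_lit 201) (.node (nat_lit 197) (.leaf (nat_lit 9)) (.leaf (nat_lit 22))) (.node (nat_lit 205) (.leaf (nat_lit 17)) (.node (nat_lit 209) (.leaf (nat_lit 19)) (.leaf (nat_lit 35))))) (.node (nat_lit 228) (.node (nat_lit 225) (.leaf (nat_lit 6)) (.leaf (nat_lit 13))) (.node (nat_lit 241) (.leaf (nat_lit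 3)) (.node (nat_lit 244) (.leaf (nat_lit 27)) (.leaf (nat_lit 38))))))))
def gs : List (ℕ × ℕ) := [(nat_lit 0x54786c01, nat_lit 0x8645e741399595f76389a81b79c51960a21631139218f00d10b247142043), (nat_lit 0x7c3d71cb, nat_lit 0x34b7126273e59a47a36628607dd6da0d65c9545513450381307288180084)]
def gens : List ℕ := [nat_lit 0x8645e741399595f76389a81b79c51960a21631139218f00d10b247142043, nat_lit 0x34b7126273e59a47a36628607dd6da0d65c9545513450381307288180084]
def certL0 : Lev := ⟨nat_lit 0, nat_lit 0xffffffffff, (.node (nat_lit 20) (.node (nat_lit 10) (.node (nat_lit 5) (.node (nat_lit 2) (.node (nat_lit 1) (.leaf (nat_lit 0x9e69648e28607de75c6da6585d65544d24503ce34c2ca2481c61440c2040)) (.leaf (nat_lit 0x5118d680d55c2d29188673e599e66219d7ce6ca6835c91424cc4011c4008))) (.node (nat_lit 3) (.leaf (nat_lit 0x34b7126273e59a47a36628607dd6da0d65c9545513450381307288180084)) (.node (nat_lit 4) (.leaf (nat_lit 0x9217e671b9d979775661a51395081588c3a328d20f19215110b0c7002049))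 (.leaf (nat_lit 0x89f81e71a6585dd5a55546e34523cd3242ca8499c79854041833804c1202))))) (.node (nat_lit 7) (.node (nat_lit 6) (.leaf (nat_lit 0x9a77a15989145e57504da5627e36606cf35c48844a2cc0ce1c6004242045)) (.leaf (nat_lit 0x18e6100494d495d44f6c72e36853578641127162a00a70d588099e64c21f))) (.node (nat_lit 8) (.leaf (nat_lit 0x65e46228c7cf81759c69461576535b8c51121cb2640e10a7026406381213)) (.node (nat_lit 9) (.leaf (nat_lit 0x69761d9546e34564a03cd55c2e48671de9856508867ce2800d3242308101)) (.leaf (nat_lit 0x8645e741399595f76389a81b79c51960a21631139218f00d10b247142043)))))) (.node (nat_lit 15) (.node (nat_lit 12) (.node (nat_lit 11) (.leaf (nat_lit 0x64841c54e52318a9db9a131791f8132dd95188f6857802426125811070cd)) (.leaf (nat_lit 0x41394e3db18b75a4458c75e161250d2605819ca55c0249847826627cc203))) (.node (nat_lit 13) (.leaf (nat_lit 0x54e71064881618c9939e429f85751b2dd78d6126809450c288f8c1107251)) (.node (nat_lit 14) (.leaf (nat_lit 0x48f5d10c92d34279629987958566a451c05d6df0231d912038d20a305086))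 (.leaf (nat_lit 0x44b40f8a649e9e19565589145dd4da2637c364081b35c20128730e185084))))) (.node (nat_lit 17) (.node (nat_lit 16) (.leaf (nat_lit 0x81085534b3947069992245a73136ca7c509701e49d3d845a0650e28c7244)) (.leaf (nat_lit 0x3868ca6e13179277d081399595d89a15c7805096582164414843cd2c3087))) (.node (nat_lit 18) (.leaf (nat_lit 0x6dd2da1475e16114a550d8cf5a09d570e0241a641e4d906209f28324810c)) (.node (nat_lit 19) (.leaf (nat_lit 0x51c91944b2204069d53a18e629b4cc5c009f1653dd4a235a05e2585870c4)) (.leaf (nat_lit 0x20658c4e429f8665dc51b9d979d61a0109458035623a33413c44912c9087))))))) (.node (nat_lit 30) (.node (nat_lit 25) (.node (nat_lit 22) (.node (nat_lit 21) (.leaf (nat_lit 0x9c115c60369312321418a89e3217c03975a59206d298734965074244f2d5)) (.leaf (nat_lit 0x94e16090642620a59d61931a79701b35384b9c77d455c0428cf883112251))) (.node (nat_lit 23) (.leaf (nat_lit 0x28c9064203a69e57dd5536858c05e285825b59905411c3de3482d21c3091)) (.node (nat_lit 24) (.leaf (nat_lit 0x1d285089c82551e38b9d120502319561d30d4c129a09f9036c99976443d6))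 (.leaf (nat_lit 0x30a84671422799e5dd65b6805857d89220d38d50601104a544e2cf1c908d))))) (.node (nat_lit 27) (.node (nat_lit 26) (.leaf (nat_lit 0x99b39704466274831a78600a52155c9cb0e346561f5852530a41e040d3d2)) (.leaf (nat_lit 0xc44e350a89e3088457c019859791b49c98768d9d905d94241181538b24f))) (.node (nat_lit 28) (.leaf (nat_lit 0x18898a75931a7965c501b6248539df52055c4019633a22c33c41d1349092)) (.node (nat_lit 29) (.leaf (nat_lit 0x18e9cc75529a9637c01538a191b9978146507017962182c94841cd44308f)) (.leaf (nat_lit 0x84a9a790c39109b02014f4d54992140467098df2de42588459734775a603)))))) (.node (nat_lit 35) (.node (nat_lit 32) (.node (nat_lit 31) (.leaf (nat_lit 0x30245b80f4d54806662141647068cb7a74253a285628d2475dd7c305811a)) (.leaf (nat_lit 0x71495e2d120500e8e11959e231d4ca69009f8241db4a635725905660f0c4))) (.node (nat_lit 33) (.leaf (nat_lit 0x5d975b69e9802143212867273a389511f9411584d190b1c381640248d3c9)) (.node (nat_lit 34) (.leaf (nat_lit 0x48f6459e002141518d58b3947262248d33116c329f09778974161a9441e2))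 (.leaf (nat_lit 0x28c7881401985a15d391b7d499c6a766305d8a50d01201d544e34f48908b))))) (.node (nat_lit 37) (.node (nat_lit 36) (.leaf (nat_lit 0x30a94e0051a28e47db8535e09d06a655605d61e25c1141d93484523c308b)) (.leaf (nat_lit 0x3d25409941647191918cb2204273a159b28d4c931709f94374189a7841d8))) (.node (nat_lit 38) (.leaf (nat_lit 0x78801484672738c8dd89529a95f15345b90b9875e065004259260910f0cd)) (.node (nat_lit 39) (.leaf (nat_lit 0x14040f35648e55c1a650b92365184881f0e75ca25b05360c68295d8841de)) (.leaf (nat_lit 0x789c5526d73d19c37892d342599831684468891405d7c28ce66034614a))))))))⟩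
def certC0 : LevCert := ⟨certL0,
    [(nat_lit 9, nat_lit 0), (nat_lit 2, nat_lit 1), (nat_lit 5, nat_lit 0), (nat_lit 16, nat_lit 1), (nat_lit 1, nat_lit 1), (nat_lit 3, nat_lit 0), (nat_lit 14, nat_lit 1), (nat_lit 35, nat_lit 0), (nat_lit 10, nat_lit 1), (nat_lit 8, nat_lit 1), (nat_lit 19, nat_lit 1), (nat_lit 13, nat_lit 0), (nat_lit 28, nat_lit 0), (nat_lit 18, nat_lit 0), (nat_lit 17, nat_lit 0), (nat_lit 4, nat_lit 1), (nat_lit 34, nat_lit 0), (nat_lit 12, nat_lit 1), (nat_lit 39, nat_lit 1), (nat_lit 22, nat_lit 0), (nat_lit 37, nat_lit 1), (nat_lit 36, nat_lit 1), (nat_lit 11, nat_lit 1), (nat_lit 7, nat_lit 0), (nat_lit 27, nat_lit 0), (nat_lit 26, nat_lit 1), (nat_lit 15, nat_lit 0), (nat_lit 31, nat_lit 0), (nat_lit 32, nat_lit 1), (nat_lit 38, nat_lit 0), (nat_lit 30, nat_lit 1), (nat_lit 6, nat_lit 0), (nat_lit 24, nat_lit 0), (nat_lit 21, nat_lit 1), (nat_lit 20, nat_lit 1), (nat_lit 33, nat_lit 1), (nat_lit 23, nat_lit 1), (nat_lit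 25, nat_lit 0), (nat_lit 29, nat_lit 1)],
    [[nat_lit 2, nat_lit 2, nat_lit 2, nat_lit 0, nat_lit 0, nat_lit 2, nat_lit 0, nat_lit 2, nat_lit 2, nat_lit 0, nat_lit 0, nat_lit 0], [nat_lit 2, nat_lit 2, nat_lit 4, nat_lit 2, nat_lit 2, nat_lit 4, nat_lit 4]],
    [nat_lit 0x90d0c485f74f81999a2de2a231151604654709c25795848521b4278ce4c0, nat_lit 0x7a076269f9033594a63cb8e14504d41e55c125b6089c610555c58228e300]⟩
def certL1 : Lev := ⟨nat_lit 1, nat_lit 0xfb11a2, (.node (nat_lit 17) (.node (nat_lit 8) (.node (nat_lit 5) (.leaf (nat_lit 0x9e69648e28607de75c6da6585d65544d24503ce34c2ca2481c61440c2040)) (.node (nat_lit 7) (.leaf (nat_lit 0x89828290d4890e380b9d919f21751031c4d53a611176195614f05e69b1c0)) (.leaf (nat_lit 0x2a31a09497d88a10cf4a47843132165265579c275065a39104d1dc6cb140)))) (.node (nat_lit 12) (.leaf (nat_lit 0x8469e48380e24661976384d4534171cf5056cb94829f7015a7562926300)) (.node (nat_lit 16) (.leaf (nat_lit 0x18e6038c97a49613c46ca4a05051d759a44c71d3410a78954194e67cb200))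 (.leaf (nat_lit 0x7a076269f9033594a63cb8e14504d41e55c125b6089c610555c58228e300))))) (.node (nat_lit 21) (.node (nat_lit 19) (.leaf (nat_lit 0x7e260e1091928e13e590a6e014c5875da05470d9d599d0d14024d978b200)) (.node (nat_lit 20) (.leaf (nat_lit 0x90d0c485f74f81999a2de2a231151604654709c25795848521b4278ce4c0)) (.leaf (nat_lit 0x7e118e89894429a0e77a370d1515012261d36e00974a47505893192cf540)))) (.node (nat_lit 22) (.leaf (nat_lit 0x64f99f7a012324a18d0a585d54705620331348b88591b9d051a44e61c5c0)) (.node (nat_lit 23) (.leaf (nat_lit 0x64349f2cd88a6239602676a45c11d455d44c10f84579c0964e640e19b200)) (.leaf (nat_lit 0x8523c92a339e9db6a27261060545c74181480e48117c26535a530b74d540))))))⟩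
def certC1 : LevCert := ⟨certL1,
    [(nat_lit 19, nat_lit 0), (nat_lit 16, nat_lit 1), (nat_lit 21, nat_lit 1), (nat_lit 5, nat_lit 0), (nat_lit 22, nat_lit 1), (nat_lit 17, nat_lit 0), (nat_lit 7, nat_lit 1), (nat_lit 8, nat_lit 0), (nat_lit 20, nat_lit 0), (nat_lit 23, nat_lit 1), (nat_lit 12, nat_lit 1)],
    [[nat_lit 2, nat_lit 0, nat_lit 0, nat_lit 2, nat_lit 2, nat_lit 2, nat_lit 0, nat_lit 2, nat_lit 2, nat_lit 2], [nat_lit 4, nat_lit 2, nat_lit 2, nat_lit 4, nat_lit 4]],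
    [nat_lit 0x24364b94d9e26237c248a6a04145c854e4cc70f75111e9161661e119b040, nat_lit 0x8643c92a50df35268e7028de44c59741850889b8151999931c414b9dd040]⟩
def certL2 : Lev := ⟨nat_lit 2, nat_lit 0x2dff04e404, (.node (nat_lit 27) (.node (nat_lit 15) (.node (nat_lit 13) (.node (nat_lit 10) (.leaf (nat_lit 0x9e69648e28607de75c6da6585d65544d24503ce34c2ca2481c61440c2040)) (.leaf (nat_lit 0x8463894a311e69b66275c3ca4145c855f4cc8189519029d61431cb98d040))) (.node (nat_lit 14) (.leaf (nat_lit 0x92128489f0cf49981a7a374d4d151031c2166e50971989951491e72ce040)) (.leaf (nat_lit 0x2e62a169f91d8998123e378d45631441c5d36c26159e51081461c90ce040)))) (.node (nat_lit 24) (.node (nat_lit 18) (.leaf (nat_lit 0x90668465d24d82561b39e2a23084165cf55109c7d38632d41c3167992040)) (.leaf (nat_lit 0x1037a72982df35a88e7258dd4d444830241549b8172598561e616418f040))) (.node (nat_lit 25) (.leaf (nat_lit 0x1a16038d21207dd3dc6e26422115d059a4cc78e35490a9d51c91662e5040)) (.node (nat_lit 26) (.leaf (nat_lit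 0x9a78c63e086578a35d61909f21745359b4153a26942d224c1641c311c040)) (.leaf (nat_lit 0x8643c92a50df35268e7028de44c59741850889b8151999931c414b9dd040)))))) (.node (nat_lit 31) (.node (nat_lit 29) (.node (nat_lit 28) (.leaf (nat_lit 0x9cb72479919874e28f09b9634d151032021635289799a0d51611c425f040)) (.leaf (nat_lit 0x24364b94d9e26237c248a6a04145c854e4cc70f75111e9161661e119b040))) (.node (nat_lit 30) (.leaf (nat_lit 0xc98a664f9cd81809b39d29251531121e5d395c7d61239101cb14685a040)) (.leaf (nat_lit 0x2e74a165e18d80295b38f29a41751355d21661c7d19a30cc1e4149122040)))) (.node (nat_lit 34) (.node (nat_lit 32) (.leaf (nat_lit 0xc46e660a2d209c8e568e89921745358d4157de3d425d84c1671c6920040)) (.leaf (nat_lit 0x1098e77609823ca35e95961f5d55914db50839a48c0e219014b1e485c040))) (.node (nat_lit 35) (.leaf (nat_lit 0x98b74628291f36248e7188cf5904d552531769b8089d91111e114325e040)) (.node (nat_lit 37) (.leaf (nat_lit 0x1a464308d25a9637d888a4a050c55720e45071d79684f2d31441e69db040)) (.leaf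 (nat_lit 0x24408b8da9a07cf79c6d266555320c46259474e3500ca1971e7161918040)))))))⟩
def certC2 : LevCert := ⟨certL2,
    [(nat_lit 28, nat_lit 0), (nat_lit 26, nat_lit 1), (nat_lit 15, nat_lit 0), (nat_lit 27, nat_lit 1), (nat_lit 25, nat_lit 0), (nat_lit 29, nat_lit 1), (nat_lit 14, nat_lit 0), (nat_lit 37, nat_lit 1), (nat_lit 10, nat_lit 1), (nat_lit 13, nat_lit 0), (nat_lit 18, nat_lit 0), (nat_lit 35, nat_lit 0), (nat_lit 34, nat_lit 1), (nat_lit 31, nat_lit 1), (nat_lit 30, nat_lit 1), (nat_lit 32, nat_lit 0), (nat_lit 24, nat_lit 1)],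
    [[nat_lit 2, nat_lit 2, nat_lit 0, nat_lit 2, nat_lit 0, nat_lit 2]],
    [nat_lit 0xc99667229d98de75f81a6d85904d55123173cd28810e9111cb146842040]⟩
def certL3 : Lev := ⟨nat_lit 3, nat_lit 0x8200000008, (.node (nat_lit 33) (.leaf (nat_lit 0x9e69648e28607de75c6da6585d65544d24503ce34c2ca2481c61440c2040)) (.node (nat_lit 39) (.leaf (nat_lit 0x8649497e20db71e76365a8184175135522163ca39118d98c1c414b9c2040)) (.leaf (nat_lit 0xc99667229d98de75f81a6d85904d55123173cd28810e9111cb146842040))))⟩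
def certC3 : LevCert := ⟨certL3,
    [(nat_lit 39, nat_lit 0), (nat_lit 33, nat_lit 0)],
    [],
    []⟩
def cert : List LevCert := [certC0, certC1, certC2, certC3]
def certL : List Lev := [certL0, certL1, certL2, certL3]
/-- the numbering of the points -/
abbrev E : Enc (Fin 40) 40 6 64 := finEnc 40 6 64 rfl (by decide)
theorem ok : modelOK F4 4 40 6 64 VT R true gs cert 25920 = true := by
  decide +kernel

/-- the permutation group -/
abbrev K : Subgroup (Equiv.Perm (Fin 40)) := E.grp gens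

theorem model {F : Type*} [Field F] [Fintype F] (hF : Fintype.card F = 4) (ι : TF F4 →+* F) :
    ∃ φ, IsModel E (suMu 4 F 2) (ptv ι (Equiv.refl _) E VT) true (Subgroup.center _) gens certL φ :=
  model_PSU ι E (r := 2) hF rfl (m := 19) (by decide) ok (by decide +kernel) (by decide +kernel)

theorem equiv {F : Type*} [Field F] [Fintype F] (hF : Fintype.card F = 4) : Nonempty (PSU 4 F 2 ≃* K) :=
  let ⟨ι, _⟩ := exists_hom F4 hF; let ⟨_, h⟩ := model hF ι; h.equiv_quot

theorem chain : E.IsChain certL K := let ⟨_, h⟩ := model (TF.card F4) (RingHom.id _); h.chain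

theorem card : Nat.card K = 25920 := chain.card.trans (modelOK_card ok)

def c1a : Cls := ⟨nat_lit 0x9e69648e28607de75c6da6585d65544d24503ce34c2ca2481c61440c2040, 25920, [nat_lit 0xffffffffff, nat_lit 0xfb11a2, nat_lit 0x2dff04e404, nat_lit 0x8200000008]⟩
def c2a : Cls := ⟨nat_lit 0x5d495365d41f81a89b71e8d89c326690f2e148e34444a5461c814c582001, 576, [nat_lit 0xdffeff9b5b, nat_lit 2, nat_lit 0x2001006404, nat_lit 0x8200000008]⟩
def c2b : Cls := ⟨nat_lit 0x3157d708e51e9606d874d3dc90b9a110a1836626a75922091511d3423001, 96, [nat_lit 0x916a8890b3, nat_lit 2, nat_lit 0x2001006404, nat_lit 8]⟩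
def c3a : Cls := ⟨nat_lit 0x44d94e8c52217de05c0da9c05d69a426265061455b2d32a01c648431d08f, 648, [nat_lit 0xd72b3ef72f, nat_lit 0x3a1122, nat_lit 4, nat_lit 0x8200000008]⟩
def c3b : Cls := ⟨nat_lit 0x3510089223a02457666c16580e15544e572779641f2d73231c63c429a092, 648, [nat_lit 0xfad4c7f72f, nat_lit 0xc31122, nat_lit 4, nat_lit 0x8200000008]⟩
def c3c : Cls := ⟨nat_lit 0x14032439786344a68f40295f34879671b6124e08991d59d410624b99d043, 108, [nat_lit 0xc924504bbd, nat_lit 2, nat_lit 0x924004004, nat_lit 8]⟩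
def c3d : Cls := ⟨nat_lit 0x7e079b55d71751a6134255a29890e78522e43c844434c6461ce00a8c2141, 54, [nat_lit 0x2465027d73, nat_lit 2, nat_lit 4, nat_lit 0x8200000008]⟩
def c4a : Cls := ⟨nat_lit 0x20674441a3265a295791825e0e15544c07270596df3a02e31ca3cd445092, 48, [nat_lit 0x40001, nat_lit 0xc31122, nat_lit 4, nat_lit 0x8200000008]⟩
def c4b : Cls := ⟨nat_lit 0x95a7e251c61340d6cc5a044e24684498a0e78d522479748b15d00f0991c1, 8, [nat_lit 0x14100010a3, nat_lit 2, nat_lit 4, nat_lit 8]⟩
def c5a : Cls := ⟨nat_lit 0x8da42089f5195ca54d9583129c700b2519837933c559c20485d90e09b181, 5, [nat_lit 0x20200043, nat_lit 2, nat_lit 4, nat_lit 8]⟩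
def c6a : Cls := ⟨nat_lit 0x38604455d29c5058938c07d85d69a42656506a70db2212e01cc49135e08f, 72, [nat_lit 0x4008001, nat_lit 0x3a1122, nat_lit 4, nat_lit 0x8200000008]⟩
def c6b : Cls := ⟨nat_lit 0x41395581d59c6da8998de7d88679a424f18348a38b20d5041cc1515c2001, 72, [nat_lit 0x464048003, nat_lit 2, nat_lit 0x2001000004, nat_lit 0x8200000008]⟩
def c6c : Cls := ⟨nat_lit 0x75928c6de0062146a75e670788f4231134419180a02c584395639f48d549, 36, [nat_lit 0x200210203, nat_lit 0x210002, nat_lit 0x2004, nat_lit 8]⟩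
def c6d : Cls := ⟨nat_lit 0x39b3d99de2868426831122e55534165d83147499087268111e305f362140, 36, [nat_lit 129, nat_lit 34, nat_lit 0x440000004, nat_lit 0x8200000008]⟩
def c6e : Cls := ⟨nat_lit 0x4576106cf2236624a07dd7022c40e785e98668d28950e5a41d3155325001, 18, [nat_lit 3, nat_lit 2, nat_lit 0x2001000004, nat_lit 0x8200000008]⟩
def c6f : Cls := ⟨nat_lit 0x35631c95a4918c25d03ca39f1669c09131e16e088b61578611425921d0c1, 12, [nat_lit 0x10014b, nat_lit 2, nat_lit 0x4004, nat_lit 8]⟩
def c9a : Cls := ⟨nat_lit 0x79a4186d68998c854d7d338c9c424b8519a45e028395c3c601d1520941c1, 9, [nat_lit 131, nat_lit 2, nat_lit 0x2001000004, nat_lit 8]⟩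
def c9b : Cls := ⟨nat_lit 0x7a04186dd5e551a5627dc5990c500985112434828730f4c62ce9928c29c1, 9, [nat_lit 0x8474200003, nat_lit 2, nat_lit 4, nat_lit 8]⟩
def c12a : Cls := ⟨nat_lit 0x3046860013a225c9a16d052781395f59515875e8e42971c32c844f49908d, 12, [nat_lit 0x800002001, nat_lit 0x900082, nat_lit 4, nat_lit 8]⟩
def c12b : Cls := ⟨nat_lit 0x4573c72da1617db1a53a67638a782408d70a60949e5194045815484c300c, 12, [nat_lit 0x6a015643, nat_lit 2, nat_lit 4, nat_lit 8]⟩
def cl : List Cls := [c1a, c2a, c2b, c3a, c3b, c3c, c3d, c4a, c4b, c5a, c6a, c6b, c6c, c6d, c6e, c6f, c9a, c9b, c12a, c12b]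
theorem cl_ok : allL cl (clsOK 6 64 40 certL 0) = true := by decide +kernel
theorem cl_pairs : pairsOK 6 64 40 certL 0 cl = true := by decide +kernel
/-- the conjugacy classes -/
theorem classes : E.ClassList K cl :=
  chain.classList (E.fixes_zero K) (allL_iff.1 cl_ok) cl_pairs card (by decide +kernel)

end Cfsg.Agent.H56.U42
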