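/-
Stabiliser chains and conjugacy classes of small alternating and symmetric groups (generated).
-/
import Cfsg.Agent.H56.IsoK

set_option autoImplicit false

namespace Cfsg.Agent.H56.Alt

open H14

def a4G : List ℕ := [nat_lit 201, nat_lit 120]
def a4CL0 : Lev := ⟨nat_lit 0, nat_lit 15, (.node (nat_lit 2) (.node (nat_lit 1) (.leaf (nat_lit 228)) (.leaf (nat_lit 210))) (.node (nat_lit 3) (.leaf (nat_lit 201)) (.leaf (nat_lit 54))))⟩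
def a4CC0 : LevCert := ⟨a4CL0,
    [(nat_lit 2, nat_lit 0), (nat_lit 1, nat_lit 0), (nat_lit 3, nat_lit 1)],
    [[nat_lit 0, nat_lit 0, nat_lit 2, nat_lit 0, nat_lit 2, nat_lit 2, nat_lit 0, nat_lit 2, nat_lit 2, nat_lit 2]],
    [nat_lit 156]⟩
def a4CL1 : Lev := ⟨nat_lit 1, nat_lit 14, (.node (nat_lit 2) (.leaf (nat_lit 228)) (.node (nat_lit 3) (.leaf (nat_lit 156)) (.leaf (nat_lit 120))))⟩
def a4CC1 : LevCert := ⟨a4CL1,
    [(nat_lit 2, nat_lit 0), (nat_lit 3, nat_lit 0)],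
    [],
    []⟩
def a4C : List LevCert := [a4CC0, a4CC1]
def a4CL : List Lev := [a4CL0, a4CL1]
abbrev a4E : Enc (Fin 4) 4 2 4 := finEnc 4 2 4 rfl (by decide)
theorem a4_chain : a4E.IsChain a4CL (alternatingGroup (Fin 4)) :=
  chain_alt (gens := a4G) (cert := a4C) (by decide) 1 (by decide +kernel)
theorem a4_card : Nat.card (alternatingGroup (Fin 4)) = 12 := a4_chain.card.trans (by decide +kernel)
/-- cycle type (1, 1, 1, 1) -/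
def a4_1a : Cls := ⟨nat_lit 228, 12, [nat_lit 15, nat_lit 14]⟩
/-- cycle type (2, 2) -/
def a4_2a : Cls := ⟨nat_lit 177, 4, [nat_lit 15, nat_lit 2]⟩
/-- cycle type (1, 3) -/
def a4_3a : Cls := ⟨nat_lit 156, 3, [nat_lit 1, nat_lit 14]⟩
/-- cycle type (1, 3) -/
def a4_3b : Cls := ⟨nat_lit 45, 3, [nat_lit 11, nat_lit 2]⟩
def a4Cl : List Cls := [a4_1a, a4_2a, a4_3a, a4_3b]
theorem a4_classes : a4E.ClassList (alternatingGroup (Fin 4)) a4Cl :=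
  a4_chain.classList (a4E.fixes_zero _) (allL_iff.1 (by decide +kernel)) (by decide +kernel) a4_card
    (by decide +kernel)

def a5G : List ℕ := [nat_lit 0x4611, nat_lit 0x8d1]
def a5CL0 : Lev := ⟨nat_lit 0, nat_lit 31, (.node (nat_lit 2) (.node (nat_lit 1) (.leaf (nat_lit 0x4688)) (.leaf (nat_lit 0x4642))) (.node (nat_lit 3) (.leaf (nat_lit 0x4611)) (.node (nat_lit 4) (.leaf (nat_lit 0x111a)) (.leaf (nat_lit 0x8d1)))))⟩
def a5CC0 : LevCert := ⟨a5CL0,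
    [(nat_lit 2, nat_lit 0), (nat_lit 4, nat_lit 1), (nat_lit 1, nat_lit 0), (nat_lit 3, nat_lit 1)],
    [[nat_lit 0, nat_lit 0, nat_lit 0, nat_lit 0, nat_lit 0, nat_lit 2], [nat_lit 4, nat_lit 4, nat_lit 4, nat_lit 4, nat_lit 4, nat_lit 4, nat_lit 4, nat_lit 4, nat_lit 2, nat_lit 4]],
    [nat_lit 0x28c8, nat_lit 0x4458]⟩
def a5CL1 : Lev := ⟨nat_lit 1, nat_lit 30, (.node (nat_lit 3) (.node (nat_lit 2) (.leaf (nat_lit 0x4688)) (.leaf (nat_lit 0x4458))) (.node (nat_lit 4) (.leaf (nat_lit 0x42d0)) (.leaf (nat_lit 0x1898))))⟩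
def a5CC1 : LevCert := ⟨a5CL1,
    [(nat_lit 2, nat_lit 1), (nat_lit 4, nat_lit 0), (nat_lit 3, nat_lit 1)],
    [[nat_lit 2, nat_lit 0, nat_lit 2, nat_lit 2, nat_lit 2, nat_lit 2, nat_lit 0, nat_lit 2]],
    [nat_lit 0x3508]⟩
def a5CL2 : Lev := ⟨nat_lit 2, nat_lit 28, (.node (nat_lit 3) (.leaf (nat_lit 0x4688)) (.node (nat_lit 4) (.leaf (nat_lit 0x3508)) (.leaf (nat_lit 0x28c8))))⟩
def a5CC2 : LevCert := ⟨a5CL2,
    [(nat_lit 3, nat_lit 0), (nat_lit 4, nat_lit 0)],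
    [],
    []⟩
def a5C : List LevCert := [a5CC0, a5CC1, a5CC2]
def a5CL : List Lev := [a5CL0, a5CL1, a5CL2]
abbrev a5E : Enc (Fin 5) 5 3 8 := finEnc 5 3 8 rfl (by decide)
theorem a5_chain : a5E.IsChain a5CL (alternatingGroup (Fin 5)) :=
  chain_alt (gens := a5G) (cert := a5C) (by decide) 7 (by decide +kernel)
theorem a5_card : Nat.card (alternatingGroup (Fin 5)) = 60 := a5_chain.card.trans (by decide +kernel)
/-- cycle type (1, 1, 1, 1, 1) -/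
def a5_1a : Cls := ⟨nat_lit 0x4688, 60, [nat_lit 31, nat_lit 30, nat_lit 28]⟩
/-- cycle type (1, 2, 2) -/
def a5_2a : Cls := ⟨nat_lit 0x3850, 4, [nat_lit 1, nat_lit 30, nat_lit 4]⟩
/-- cycle type (1, 1, 3) -/
def a5_3a : Cls := ⟨nat_lit 0x4611, 3, [nat_lit 7, nat_lit 2, nat_lit 4]⟩
/-- cycle type (5,) -/
def a5_5a : Cls := ⟨nat_lit 0x3302, 5, [nat_lit 31, nat_lit 2, nat_lit 4]⟩
/-- cycle type (5,) -/
def a5_5b : Cls := ⟨nat_lit 0x3111, 5, [nat_lit 31, nat_lit 2, nat_lit 4]⟩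
def a5Cl : List Cls := [a5_1a, a5_2a, a5_3a, a5_5a, a5_5b]
theorem a5_classes : a5E.ClassList (alternatingGroup (Fin 5)) a5Cl :=
  a5_chain.classList (a5E.fixes_zero _) (allL_iff.1 (by decide +kernel)) (by decide +kernel) a5_card
    (by decide +kernel)

def a6G : List ℕ := [nat_lit 0x2c611, nat_lit 0xd8d0]
def a6CL0 : Lev := ⟨nat_lit 0, nat_lit 63, (.node (nat_lit 3) (.node (nat_lit 1) (.leaf (nat_lit 0x2c688)) (.node (nat_lit 2) (.leaf (nat_lit 0x2c642)) (.leaf (nat_lit 0x2c611)))) (.node (nat_lit 4) (.leaf (nat_lit 0x19162)) (.node (nat_lit 5) (.leaf (nat_lit 0x8b1a)) (.leaf (nat_lit 0x58ca)))))⟩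
def a6CC0 : LevCert := ⟨a6CL0,
    [(nat_lit 2, nat_lit 0), (nat_lit 1, nat_lit 0), (nat_lit 5, nat_lit 1), (nat_lit 4, nat_lit 1), (nat_lit 3, nat_lit 1)],
    [[nat_lit 0, nat_lit 0, nat_lit 0, nat_lit 2, nat_lit 2, nat_lit 2], [nat_lit 2, nat_lit 2, nat_lit 2, nat_lit 2, nat_lit 4, nat_lit 2, nat_lit 4]],
    [nat_lit 0x1a360, nat_lit 0x1ab08]⟩
def a6CL1 : Lev := ⟨nat_lit 1, nat_lit 62, (.node (nat_lit 3) (.node (nat_lit 2) (.leaf (nat_lit 0x2c688)) (.leaf (nat_lit 0x23468))) (.node (nat_lit 4) (.leaf (nat_lit 0x1a360)) (.node (nat_lit 5) (.leaf (nat_lit 0x11b18)) (.leaf (nat_lit 0xd8d0)))))⟩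
def a6CC1 : LevCert := ⟨a6CL1,
    [(nat_lit 3, nat_lit 0), (nat_lit 5, nat_lit 0), (nat_lit 2, nat_lit 0), (nat_lit 4, nat_lit 0)],
    [[nat_lit 0, nat_lit 0, nat_lit 0, nat_lit 0, nat_lit 2, nat_lit 0, nat_lit 2, nat_lit 0, nat_lit 0, nat_lit 2], [nat_lit 4, nat_lit 4, nat_lit 2, nat_lit 4, nat_lit 2, nat_lit 2, nat_lit 2, nat_lit 4]],
    [nat_lit 0x2a8c8, nat_lit 0x14ac8]⟩
def a6CL2 : Lev := ⟨nat_lit 2, nat_lit 60, (.node (nat_lit 4) (.node (nat_lit 3) (.leaf (nat_lit 0x2c688)) (.leaf (nat_lit 0x2b508))) (.node (nat_lit 5) (.leaf (nat_lit 0x2a8c8)) (.leaf (nat_lit 0x14ac8))))⟩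
def a6CC2 : LevCert := ⟨a6CL2,
    [(nat_lit 4, nat_lit 0), (nat_lit 5, nat_lit 1), (nat_lit 3, nat_lit 0)],
    [[nat_lit 2, nat_lit 2, nat_lit 2, nat_lit 2, nat_lit 0, nat_lit 0, nat_lit 0, nat_lit 2, nat_lit 0]],
    [nat_lit 0x1d888]⟩
def a6CL3 : Lev := ⟨nat_lit 3, nat_lit 56, (.node (nat_lit 4) (.leaf (nat_lit 0x2c688)) (.node (nat_lit 5) (.leaf (nat_lit 0x23a88)) (.leaf (nat_lit 0x1d888))))⟩
def a6CC3 : LevCert := ⟨a6CL3,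
    [(nat_lit 5, nat_lit 0), (nat_lit 4, nat_lit 0)],
    [],
    []⟩
def a6C : List LevCert := [a6CC0, a6CC1, a6CC2, a6CC3]
def a6CL : List Lev := [a6CL0, a6CL1, a6CL2, a6CL3]
abbrev a6E : Enc (Fin 6) 6 3 8 := finEnc 6 3 8 rfl (by decide)
theorem a6_chain : a6E.IsChain a6CL (alternatingGroup (Fin 6)) :=
  chain_alt (gens := a6G) (cert := a6C) (by decide) 7 (by decide +kernel)
theorem a6_card : Nat.card (alternatingGroup (Fin 6)) = 360 := a6_chain.card.trans (by decide +kernel)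
/-- cycle type (1, 1, 1, 1, 1, 1) -/
def a6_1a : Cls := ⟨nat_lit 0x2c688, 360, [nat_lit 63, nat_lit 62, nat_lit 60, nat_lit 56]⟩
/-- cycle type (1, 1, 2, 2) -/
def a6_2a : Cls := ⟨nat_lit 0x2c4c1, 8, [nat_lit 15, nat_lit 2, nat_lit 12, nat_lit 8]⟩
/-- cycle type (3, 3) -/
def a6_3a : Cls := ⟨nat_lit 0x23a11, 9, [nat_lit 7, nat_lit 2, nat_lit 4, nat_lit 56]⟩
/-- cycle type (1, 1, 1, 3) -/
def a6_3b : Cls := ⟨nat_lit 0x2c611, 9, [nat_lit 7, nat_lit 2, nat_lit 4, nat_lit 56]⟩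
/-- cycle type (2, 4) -/
def a6_4a : Cls := ⟨nat_lit 0x250d1, 4, [nat_lit 15, nat_lit 2, nat_lit 4, nat_lit 8]⟩
/-- cycle type (1, 5) -/
def a6_5a : Cls := ⟨nat_lit 0x288d1, 5, [nat_lit 31, nat_lit 2, nat_lit 4, nat_lit 8]⟩
/-- cycle type (1, 5) -/
def a6_5b : Cls := ⟨nat_lit 0x4ad1, 5, [nat_lit 47, nat_lit 2, nat_lit 4, nat_lit 8]⟩
def a6Cl : List Cls := [a6_1a, a6_2a, a6_3a, a6_3b, a6_4a, a6_5a, a6_5b]
theorem a6_classes : a6E.ClassList (alternatingGroup (Fin 6)) a6Cl :=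
  a6_chain.classList (a6E.fixes_zero _) (allL_iff.1 (by decide +kernel)) (by decide +kernel) a6_card
    (by decide +kernel)

def a7G : List ℕ := [nat_lit 0x1ac611, nat_lit 0x358d1]
def a7CL0 : Lev := ⟨nat_lit 0, nat_lit 127, (.node (nat_lit 3) (.node (nat_lit 1) (.leaf (nat_lit 0x1ac688)) (.node (nat_lit 2) (.leaf (nat_lit 0x1ac642)) (.leaf (nat_lit 0x1ac611)))) (.node (nat_lit 5) (.node (nat_lit 4) (.leaf (nat_lit 0xd11ac)) (.leaf (nat_lit 0x88d63))) (.node (nat_lit 6) (.leaf (nat_lit 0x46b1a)) (.leaf (nat_lit 0x358d1)))))⟩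
def a7CC0 : LevCert := ⟨a7CL0,
    [(nat_lit 2, nat_lit 0), (nat_lit 6, nat_lit 1), (nat_lit 1, nat_lit 0), (nat_lit 5, nat_lit 1), (nat_lit 4, nat_lit 1), (nat_lit 3, nat_lit 1)],
    [[nat_lit 2, nat_lit 2, nat_lit 2, nat_lit 2, nat_lit 2, nat_lit 2, nat_lit 0], [nat_lit 2, nat_lit 4, nat_lit 4]],
    [nat_lit 0x163588, nat_lit 0x8eb18]⟩
def a7CL1 : Lev := ⟨nat_lit 1, nat_lit 126, (.node (nat_lit 4) (.node (nat_lit 2) (.leaf (nat_lit 0x1ac688)) (.node (nat_lit 3) (.leaf (nat_lit 0x1ac458)) (.leaf (nat_lit 0x11a3a8)))) (.node (nat_lit 5) (.leaf (nat_lit 0x99d60)) (.node (nat_lit 6) (.leaf (nat_lit 0x8eb18)) (.leaf (nat_lit 0x75898)))))⟩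
def a7CC1 : LevCert := ⟨a7CL1,
    [(nat_lit 5, nat_lit 1), (nat_lit 6, nat_lit 0), (nat_lit 3, nat_lit 1), (nat_lit 2, nat_lit 0), (nat_lit 4, nat_lit 1)],
    [[nat_lit 2, nat_lit 0, nat_lit 2, nat_lit 2, nat_lit 0, nat_lit 2, nat_lit 0], [nat_lit 4, nat_lit 4, nat_lit 4, nat_lit 2, nat_lit 4, nat_lit 4, nat_lit 4]],
    [nat_lit 0x1a2748, nat_lit 0x163588]⟩
def a7CL2 : Lev := ⟨nat_lit 2, nat_lit 124, (.node (nat_lit 4) (.node (nat_lit 3) (.leaf (nat_lit 0x1ac688)) (.leaf (nat_lit 0x163588))) (.node (nat_lit 5) (.leaf (nat_lit 0x1a2748)) (.node (nat_lit 6) (.leaf (nat_lit 0x195708)) (.leaf (nat_lit 0xab988)))))⟩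
def a7CC2 : LevCert := ⟨a7CL2,
    [(nat_lit 4, nat_lit 0), (nat_lit 3, nat_lit 1), (nat_lit 5, nat_lit 0), (nat_lit 6, nat_lit 1)],
    [[nat_lit 0, nat_lit 0, nat_lit 2, nat_lit 0, nat_lit 2], [nat_lit 2, nat_lit 2, nat_lit 4, nat_lit 4, nat_lit 2, nat_lit 4, nat_lit 2]],
    [nat_lit 0xf4a88, nat_lit 0x135688]⟩
def a7CL3 : Lev := ⟨nat_lit 3, nat_lit 120, (.node (nat_lit 5) (.node (nat_lit 4) (.leaf (nat_lit 0x1ac688)) (.leaf (nat_lit 0x12bc88))) (.node (nat_lit 6) (.leaf (nat_lit 0x15cc88)) (.leaf (nat_lit 0xf4a88))))⟩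
def a7CC3 : LevCert := ⟨a7CL3,
    [(nat_lit 6, nat_lit 0), (nat_lit 5, nat_lit 0), (nat_lit 4, nat_lit 1)],
    [[nat_lit 2, nat_lit 2, nat_lit 0, nat_lit 0, nat_lit 2, nat_lit 2, nat_lit 2, nat_lit 0]],
    [nat_lit 0x166688]⟩
def a7CL4 : Lev := ⟨nat_lit 4, nat_lit 112, (.node (nat_lit 5) (.leaf (nat_lit 0x1ac688)) (.node (nat_lit 6) (.leaf (nat_lit 0x166688)) (.leaf (nat_lit 0x135688))))⟩
def a7CC4 : LevCert := ⟨a7CL4,
    [(nat_lit 5, nat_lit 0), (nat_lit 6, nat_lit 0)],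
    [],
    []⟩
def a7C : List LevCert := [a7CC0, a7CC1, a7CC2, a7CC3, a7CC4]
def a7CL : List Lev := [a7CL0, a7CL1, a7CL2, a7CL3, a7CL4]
abbrev a7E : Enc (Fin 7) 7 3 8 := finEnc 7 3 8 rfl (by decide)
theorem a7_chain : a7E.IsChain a7CL (alternatingGroup (Fin 7)) :=
  chain_alt (gens := a7G) (cert := a7C) (by decide) 10 (by decide +kernel)
theorem a7_card : Nat.card (alternatingGroup (Fin 7)) = 2520 := a7_chain.card.trans (by decide +kernel)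
/-- cycle type (1, 1, 1, 1, 1, 1, 1) -/
def a7_1a : Cls := ⟨nat_lit 0x1ac688, 2520, [nat_lit 127, nat_lit 126, nat_lit 124, nat_lit 120, nat_lit 112]⟩
/-- cycle type (1, 1, 1, 2, 2) -/
def a7_2a : Cls := ⟨nat_lit 0x1ac4c1, 24, [nat_lit 15, nat_lit 2, nat_lit 12, nat_lit 8, nat_lit 112]⟩
/-- cycle type (1, 1, 1, 1, 3) -/
def a7_3a : Cls := ⟨nat_lit 0x1ac611, 36, [nat_lit 7, nat_lit 2, nat_lit 4, nat_lit 120, nat_lit 112]⟩
/-- cycle type (1, 3, 3) -/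
def a7_3b : Cls := ⟨nat_lit 0x1352d0, 9, [nat_lit 1, nat_lit 14, nat_lit 4, nat_lit 8, nat_lit 112]⟩
/-- cycle type (1, 2, 4) -/
def a7_4a : Cls := ⟨nat_lit 0x1740d1, 4, [nat_lit 15, nat_lit 2, nat_lit 4, nat_lit 8, nat_lit 16]⟩
/-- cycle type (1, 1, 5) -/
def a7_5a : Cls := ⟨nat_lit 0x1a88d1, 5, [nat_lit 31, nat_lit 2, nat_lit 4, nat_lit 8, nat_lit 16]⟩
/-- cycle type (2, 2, 3) -/
def a7_6a : Cls := ⟨nat_lit 0x1728c1, 12, [nat_lit 99, nat_lit 2, nat_lit 28, nat_lit 8, nat_lit 16]⟩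
/-- cycle type (7,) -/
def a7_7a : Cls := ⟨nat_lit 0x1468d1, 7, [nat_lit 127, nat_lit 2, nat_lit 4, nat_lit 8, nat_lit 16]⟩
/-- cycle type (7,) -/
def a7_7b : Cls := ⟨nat_lit 0x358d1, 7, [nat_lit 127, nat_lit 2, nat_lit 4, nat_lit 8, nat_lit 16]⟩
def a7Cl : List Cls := [a7_1a, a7_2a, a7_3a, a7_3b, a7_4a, a7_5a, a7_6a, a7_7a, a7_7b]
theorem a7_classes : a7E.ClassList (alternatingGroup (Fin 7)) a7Cl :=
  a7_chain.classList (a7E.fixes_zero _) (allL_iff.1 (by decide +kernel)) (by decide +kernel) a7_card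
    (by decide +kernel)

def a8G : List ℕ := [nat_lit 0xfac611, nat_lit 0x3f58d0]
def a8CL0 : Lev := ⟨nat_lit 0, nat_lit 255, (.node (nat_lit 4) (.node (nat_lit 2) (.node (nat_lit 1) (.leaf (nat_lit 0xfac688)) (.leaf (nat_lit 0xfac642))) (.node (nat_lit 3) (.leaf (nat_lit 0xfac611)) (.leaf (nat_lit 0xb191f2)))) (.node (nat_lit 6) (.node (nat_lit 5) (.leaf (nat_lit 0x8c8faa)) (.leaf (nat_lit 0x647d62))) (.node (nat_lit 7) (.leaf (nat_lit 0x23eb1a)) (.leaf (nat_lit 0x1f58ca)))))⟩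
def a8CC0 : LevCert := ⟨a8CL0,
    [(nat_lit 2, nat_lit 0), (nat_lit 1, nat_lit 0), (nat_lit 7, nat_lit 1), (nat_lit 6, nat_lit 1), (nat_lit 5, nat_lit 1), (nat_lit 4, nat_lit 1), (nat_lit 3, nat_lit 1)],
    [[nat_lit 0, nat_lit 0, nat_lit 2, nat_lit 2, nat_lit 2, nat_lit 0, nat_lit 2, nat_lit 2, nat_lit 0, nat_lit 2, nat_lit 0, nat_lit 0], [nat_lit 2, nat_lit 2, nat_lit 4, nat_lit 4, nat_lit 4, nat_lit 4, nat_lit 2, nat_lit 2, nat_lit 4, nat_lit 4, nat_lit 2, nat_lit 2, nat_lit 4]],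
    [nat_lit 0xeab330, nat_lit 0xd54678]⟩
def a8CL1 : Lev := ⟨nat_lit 1, nat_lit 254, (.node (nat_lit 4) (.node (nat_lit 2) (.leaf (nat_lit 0xfac688)) (.node (nat_lit 3) (.leaf (nat_lit 0xd54678)) (.leaf (nat_lit 0xeab330)))) (.node (nat_lit 6) (.node (nat_lit 5) (.leaf (nat_lit 0xf29cd0)) (.leaf (nat_lit 0xa8c7f0))) (.node (nat_lit 7) (.leaf (nat_lit 0xc53f28)) (.leaf (nat_lit 0x2a3f70)))))⟩
def a8CC1 : LevCert := ⟨a8CL1,
    [(nat_lit 3, nat_lit 0), (nat_lit 2, nat_lit 1), (nat_lit 4, nat_lit 0), (nat_lit 6, nat_lit 0), (nat_lit 5, nat_lit 1), (nat_lit 7, nat_lit 1)],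
    [[nat_lit 2, nat_lit 0, nat_lit 2, nat_lit 2, nat_lit 2, nat_lit 0, nat_lit 2, nat_lit 0, nat_lit 0, nat_lit 2], [nat_lit 4, nat_lit 4, nat_lit 2, nat_lit 2, nat_lit 4, nat_lit 4, nat_lit 4]],
    [nat_lit 0xed4d48, nat_lit 0x7ee508]⟩
def a8CL2 : Lev := ⟨nat_lit 2, nat_lit 252, (.node (nat_lit 5) (.node (nat_lit 3) (.leaf (nat_lit 0xfac688)) (.node (nat_lit 4) (.leaf (nat_lit 0x7ee508)) (.leaf (nat_lit 0xee2b88)))) (.node (nat_lit 6) (.leaf (nat_lit 0xed4d48)) (.node (nat_lit 7) (.leaf (nat_lit 0x6a6f48)) (.leaf (nat_lit 0x4ef988)))))⟩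
def a8CC2 : LevCert := ⟨a8CL2,
    [(nat_lit 5, nat_lit 0), (nat_lit 3, nat_lit 1), (nat_lit 6, nat_lit 0), (nat_lit 7, nat_lit 1), (nat_lit 4, nat_lit 1)],
    [[nat_lit 2, nat_lit 0, nat_lit 2, nat_lit 0, nat_lit 0, nat_lit 0, nat_lit 2, nat_lit 2, nat_lit 0, nat_lit 2, nat_lit 2], [nat_lit 4, nat_lit 2, nat_lit 4, nat_lit 4]],
    [nat_lit 0xcece88, nat_lit 0xbe3c88]⟩
def a8CL3 : Lev := ⟨nat_lit 3, nat_lit 248, (.node (nat_lit 5) (.node (nat_lit 4) (.leaf (nat_lit 0xfac688)) (.leaf (nat_lit 0xbe3c88))) (.node (nat_lit 6) (.leaf (nat_lit 0x95ee88)) (.node (nat_lit 7) (.leaf (nat_lit 0xcece88)) (.leaf (nat_lit 0x7ecc88)))))⟩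
def a8CC3 : LevCert := ⟨a8CL3,
    [(nat_lit 6, nat_lit 0), (nat_lit 4, nat_lit 1), (nat_lit 7, nat_lit 0), (nat_lit 5, nat_lit 1)],
    [[nat_lit 0, nat_lit 2], [nat_lit 2, nat_lit 2, nat_lit 4, nat_lit 4]],
    [nat_lit 0xba7688, nat_lit 0x977688]⟩
def a8CL4 : Lev := ⟨nat_lit 4, nat_lit 240, (.node (nat_lit 6) (.node (nat_lit 5) (.leaf (nat_lit 0xfac688)) (.leaf (nat_lit 0xba7688))) (.node (nat_lit 7) (.leaf (nat_lit 0xf35688)) (.leaf (nat_lit 0x977688))))⟩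
def a8CC4 : LevCert := ⟨a8CL4,
    [(nat_lit 5, nat_lit 0), (nat_lit 7, nat_lit 1), (nat_lit 6, nat_lit 1)],
    [[nat_lit 0, nat_lit 2, nat_lit 2, nat_lit 0, nat_lit 2, nat_lit 0, nat_lit 0, nat_lit 0]],
    [nat_lit 0xbf4688]⟩
def a8CL5 : Lev := ⟨nat_lit 5, nat_lit 224, (.node (nat_lit 6) (.leaf (nat_lit 0xfac688)) (.node (nat_lit 7) (.leaf (nat_lit 0xd7c688)) (.leaf (nat_lit 0xbf4688))))⟩
def a8CC5 : LevCert := ⟨a8CL5,
    [(nat_lit 7, nat_lit 0), (nat_lit 6, nat_lit 0)],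
    [],
    []⟩
def a8C : List LevCert := [a8CC0, a8CC1, a8CC2, a8CC3, a8CC4, a8CC5]
def a8CL : List Lev := [a8CL0, a8CL1, a8CL2, a8CL3, a8CL4, a8CL5]
abbrev a8E : Enc (Fin 8) 8 3 8 := finEnc 8 3 8 rfl (by decide)
theorem a8_chain : a8E.IsChain a8CL (alternatingGroup (Fin 8)) :=
  chain_alt (gens := a8G) (cert := a8C) (by decide) 10 (by decide +kernel)
theorem a8_card : Nat.card (alternatingGroup (Fin 8)) = 20160 := a8_chain.card.trans (by decide +kernel)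
/-- cycle type (1, 1, 1, 1, 1, 1, 1, 1) -/
def a8_1a : Cls := ⟨nat_lit 0xfac688, 20160, [nat_lit 255, nat_lit 254, nat_lit 252, nat_lit 248, nat_lit 240, nat_lit 224]⟩
/-- cycle type (2, 2, 2, 2) -/
def a8_2a : Cls := ⟨nat_lit 0xde54c1, 192, [nat_lit 255, nat_lit 2, nat_lit 252, nat_lit 8, nat_lit 240, nat_lit 32]⟩
/-- cycle type (1, 1, 1, 1, 2, 2) -/
def a8_2b : Cls := ⟨nat_lit 0xfa5681, 96, [nat_lit 51, nat_lit 2, nat_lit 204, nat_lit 200, nat_lit 48, nat_lit 32]⟩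
/-- cycle type (1, 1, 1, 1, 1, 3) -/
def a8_3a : Cls := ⟨nat_lit 0xf9d888, 180, [nat_lit 199, nat_lit 198, nat_lit 196, nat_lit 56, nat_lit 16, nat_lit 32]⟩
/-- cycle type (1, 1, 3, 3) -/
def a8_3b : Cls := ⟨nat_lit 0xf9d811, 18, [nat_lit 63, nat_lit 2, nat_lit 4, nat_lit 56, nat_lit 16, nat_lit 32]⟩
/-- cycle type (4, 4) -/
def a8_4a : Cls := ⟨nat_lit 0x9f50d1, 16, [nat_lit 255, nat_lit 2, nat_lit 4, nat_lit 8, nat_lit 80, nat_lit 32]⟩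
/-- cycle type (1, 1, 2, 4) -/
def a8_4b : Cls := ⟨nat_lit 0xfa50d1, 8, [nat_lit 15, nat_lit 2, nat_lit 4, nat_lit 8, nat_lit 48, nat_lit 32]⟩
/-- cycle type (1, 1, 1, 5) -/
def a8_5a : Cls := ⟨nat_lit 0xfa88d1, 15, [nat_lit 31, nat_lit 2, nat_lit 4, nat_lit 8, nat_lit 16, nat_lit 224]⟩
/-- cycle type (1, 2, 2, 3) -/
def a8_6a : Cls := ⟨nat_lit 0xdeb811, 12, [nat_lit 7, nat_lit 2, nat_lit 4, nat_lit 216, nat_lit 16, nat_lit 32]⟩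
/-- cycle type (2, 6) -/
def a8_6b : Cls := ⟨nat_lit 0xdc58d1, 6, [nat_lit 63, nat_lit 2, nat_lit 4, nat_lit 8, nat_lit 16, nat_lit 32]⟩
/-- cycle type (1, 7) -/
def a8_7a : Cls := ⟨nat_lit 0xe358d1, 7, [nat_lit 127, nat_lit 2, nat_lit 4, nat_lit 8, nat_lit 16, nat_lit 32]⟩
/-- cycle type (1, 7) -/
def a8_7b : Cls := ⟨nat_lit 0x1bd8d1, 7, [nat_lit 191, nat_lit 2, nat_lit 4, nat_lit 8, nat_lit 16, nat_lit 32]⟩
/-- cycle type (3, 5) -/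
def a8_15a : Cls := ⟨nat_lit 0xcfd811, 15, [nat_lit 7, nat_lit 2, nat_lit 4, nat_lit 248, nat_lit 16, nat_lit 32]⟩
/-- cycle type (3, 5) -/
def a8_15b : Cls := ⟨nat_lit 0xd788d1, 15, [nat_lit 31, nat_lit 2, nat_lit 4, nat_lit 8, nat_lit 16, nat_lit 224]⟩
def a8Cl : List Cls := [a8_1a, a8_2a, a8_2b, a8_3a, a8_3b, a8_4a, a8_4b, a8_5a, a8_6a, a8_6b, a8_7a, a8_7b, a8_15a, a8_15b]
theorem a8_classes : a8E.ClassList (alternatingGroup (Fin 8)) a8Cl :=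
  a8_chain.classList (a8E.fixes_zero _) (allL_iff.1 (by decide +kernel)) (by decide +kernel) a8_card
    (by decide +kernel)

def a9G : List ℕ := [nat_lit 0x876543021, nat_lit 0x87654321]
def a9CL0 : Lev := ⟨nat_lit 0, nat_lit 511, (.node (nat_lit 4) (.node (nat_lit 2) (.node (nat_lit 1) (.leaf (nat_lit 0x876543210)) (.leaf (nat_lit 0x876543102))) (.node (nat_lit 3) (.leaf (nat_lit 0x876543021)) (.leaf (nat_lit 0x543210876)))) (.node (nat_lit 6) (.node (nat_lit 5) (.leaf (nat_lit 0x432108765)) (.leaf (nat_lit 0x321087654))) (.node (nat_lit 7) (.leaf (nat_lit 0x210876543)) (.node (nat_lit 8) (.leaf (nat_lit 0x108765432)) (.leaf (nat_lit 0x87654321))))))⟩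
def a9CC0 : LevCert := ⟨a9CL0,
    [(nat_lit 2, nat_lit 0), (nat_lit 8, nat_lit 1), (nat_lit 1, nat_lit 0), (nat_lit 7, nat_lit 1), (nat_lit 6, nat_lit 1), (nat_lit 5, nat_lit 1), (nat_lit 4, nat_lit 1), (nat_lit 3, nat_lit 1)],
    [[nat_lit 2, nat_lit 2, nat_lit 2, nat_lit 2, nat_lit 2, nat_lit 2, nat_lit 2, nat_lit 0, nat_lit 0], [nat_lit 2, nat_lit 2, nat_lit 4]],
    [nat_lit 0x654321870, nat_lit 0x287654310]⟩
def a9CL1 : Lev := ⟨nat_lit 1, nat_lit 510, (.node (nat_lit 5) (.node (nat_lit 3) (.node (nat_lit 2) (.leaf (nat_lit 0x876543210)) (.leaf (nat_lit 0x865432170))) (.node (nat_lit 4) (.leaf (nat_lit 0x654321870)) (.leaf (nat_lit 0x643218750)))) (.node (nat_lit 7) (.node (nat_lit 6) (.leaf (nat_lit 0x432187650)) (.leaf (nat_lit 0x421876530))) (.node (nat_lit 8) (.leaf (nat_lit 0x218765430)) (.leaf (nat_lit 0x186543270)))))⟩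
def a9CC1 : LevCert := ⟨a9CL1,
    [(nat_lit 3, nat_lit 0), (nat_lit 5, nat_lit 0), (nat_lit 2, nat_lit 1), (nat_lit 7, nat_lit 0), (nat_lit 4, nat_lit 1), (nat_lit 8, nat_lit 1), (nat_lit 6, nat_lit 1)],
    [[nat_lit 0, nat_lit 0, nat_lit 0, nat_lit 2, nat_lit 0, nat_lit 2, nat_lit 0, nat_lit 2, nat_lit 2], [nat_lit 2, nat_lit 4, nat_lit 4, nat_lit 4, nat_lit 2, nat_lit 4]],
    [nat_lit 0x248765310, nat_lit 0x286543710]⟩
def a9CL2 : Lev := ⟨nat_lit 2, nat_lit 508, (.node (nat_lit 5) (.node (nat_lit 3) (.leaf (nat_lit 0x876543210)) (.node (nat_lit 4) (.leaf (nat_lit 0x584632710)) (.leaf (nat_lit 0x583624710)))) (.node (nat_lit 7) (.node (nat_lit 6) (.leaf (nat_lit 0x463287510)) (.leaf (nat_lit 0x362487510))) (.node (nat_lit 8) (.leaf (nat_lit 0x328765410)) (.leaf (nat_lit 0x248765310)))))⟩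
def a9CC2 : LevCert := ⟨a9CL2,
    [(nat_lit 8, nat_lit 0), (nat_lit 6, nat_lit 0), (nat_lit 7, nat_lit 1), (nat_lit 4, nat_lit 0), (nat_lit 5, nat_lit 0), (nat_lit 3, nat_lit 0)],
    [[nat_lit 0, nat_lit 0, nat_lit 0, nat_lit 0, nat_lit 2, nat_lit 2, nat_lit 0, nat_lit 2, nat_lit 0, nat_lit 0, nat_lit 2], [nat_lit 2, nat_lit 4, nat_lit 2, nat_lit 2, nat_lit 4, nat_lit 4, nat_lit 4, nat_lit 4, nat_lit 4, nat_lit 2]],
    [nat_lit 0x483567210, nat_lit 0x538746210]⟩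
def a9CL3 : Lev := ⟨nat_lit 3, nat_lit 504, (.node (nat_lit 6) (.node (nat_lit 4) (.leaf (nat_lit 0x876543210)) (.node (nat_lit 5) (.leaf (nat_lit 0x647538210)) (.leaf (nat_lit 0x765348210)))) (.node (nat_lit 7) (.leaf (nat_lit 0x483567210)) (.node (nat_lit 8) (.leaf (nat_lit 0x538746210)) (.leaf (nat_lit 0x368574210)))))⟩
def a9CC3 : LevCert := ⟨a9CL3,
    [(nat_lit 6, nat_lit 0), (nat_lit 7, nat_lit 1), (nat_lit 4, nat_lit 0), (nat_lit 5, nat_lit 1), (nat_lit 8, nat_lit 0)],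
    [[nat_lit 0, nat_lit 2, nat_lit 0, nat_lit 0, nat_lit 2, nat_lit 0, nat_lit 0, nat_lit 0], [nat_lit 2, nat_lit 4]],
    [nat_lit 0x748653210, nat_lit 0x574863210]⟩
def a9CL4 : Lev := ⟨nat_lit 4, nat_lit 496, (.node (nat_lit 6) (.node (nat_lit 5) (.leaf (nat_lit 0x876543210)) (.leaf (nat_lit 0x765483210))) (.node (nat_lit 7) (.leaf (nat_lit 0x574863210)) (.node (nat_lit 8) (.leaf (nat_lit 0x748653210)) (.leaf (nat_lit 0x457863210)))))⟩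
def a9CC4 : LevCert := ⟨a9CL4,
    [(nat_lit 7, nat_lit 0), (nat_lit 6, nat_lit 1), (nat_lit 8, nat_lit 0), (nat_lit 5, nat_lit 0)],
    [[nat_lit 0, nat_lit 0, nat_lit 2, nat_lit 2, nat_lit 0, nat_lit 2], [nat_lit 2, nat_lit 4, nat_lit 2, nat_lit 4, nat_lit 2]],
    [nat_lit 0x768543210, nat_lit 0x865743210]⟩
def a9CL5 : Lev := ⟨nat_lit 5, nat_lit 480, (.node (nat_lit 7) (.node (nat_lit 6) (.leaf (nat_lit 0x876543210)) (.leaf (nat_lit 0x865743210))) (.node (nat_lit 8) (.leaf (nat_lit 0x658743210)) (.leaf (nat_lit 0x586743210))))⟩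
def a9CC5 : LevCert := ⟨a9CL5,
    [(nat_lit 6, nat_lit 1), (nat_lit 7, nat_lit 0), (nat_lit 8, nat_lit 0)],
    [[nat_lit 2, nat_lit 0, nat_lit 2, nat_lit 2, nat_lit 2, nat_lit 2]],
    [nat_lit 0x687543210]⟩
def a9CL6 : Lev := ⟨nat_lit 6, nat_lit 448, (.node (nat_lit 7) (.leaf (nat_lit 0x876543210)) (.node (nat_lit 8) (.leaf (nat_lit 0x768543210)) (.leaf (nat_lit 0x687543210))))⟩
def a9CC6 : LevCert := ⟨a9CL6,
    [(nat_lit 8, nat_lit 0), (nat_lit 7, nat_lit 0)],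
    [],
    []⟩
def a9C : List LevCert := [a9CC0, a9CC1, a9CC2, a9CC3, a9CC4, a9CC5, a9CC6]
def a9CL : List Lev := [a9CL0, a9CL1, a9CL2, a9CL3, a9CL4, a9CL5, a9CL6]
abbrev a9E : Enc (Fin 9) 9 4 16 := finEnc 9 4 16 rfl (by decide)
theorem a9_chain : a9E.IsChain a9CL (alternatingGroup (Fin 9)) :=
  chain_alt (gens := a9G) (cert := a9C) (by decide) 4 (by decide +kernel)
theorem a9_card : Nat.card (alternatingGroup (Fin 9)) = 181440 := a9_chain.card.trans (by decide +kernel)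
/-- cycle type (1, 1, 1, 1, 1, 1, 1, 1, 1) -/
def a9_1a : Cls := ⟨nat_lit 0x876543210, 181440, [nat_lit 511, nat_lit 510, nat_lit 508, nat_lit 504, nat_lit 496, nat_lit 480, nat_lit 448]⟩
/-- cycle type (1, 1, 1, 1, 1, 2, 2) -/
def a9_2a : Cls := ⟨nat_lit 0x876453201, 480, [nat_lit 51, nat_lit 2, nat_lit 460, nat_lit 456, nat_lit 48, nat_lit 32, nat_lit 448]⟩
/-- cycle type (1, 2, 2, 2, 2) -/
def a9_2b : Cls := ⟨nat_lit 0x786452301, 192, [nat_lit 447, nat_lit 2, nat_lit 444, nat_lit 8, nat_lit 432, nat_lit 32, nat_lit 64]⟩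
/-- cycle type (1, 1, 1, 1, 1, 1, 3) -/
def a9_3a : Cls := ⟨nat_lit 0x876541320, 1080, [nat_lit 497, nat_lit 14, nat_lit 4, nat_lit 8, nat_lit 496, nat_lit 480, nat_lit 448]⟩
/-- cycle type (3, 3, 3) -/
def a9_3b : Cls := ⟨nat_lit 0x768354021, 81, [nat_lit 511, nat_lit 2, nat_lit 4, nat_lit 56, nat_lit 16, nat_lit 32, nat_lit 448]⟩
/-- cycle type (1, 1, 1, 3, 3) -/
def a9_3c : Cls := ⟨nat_lit 0x876354021, 54, [nat_lit 63, nat_lit 2, nat_lit 4, nat_lit 56, nat_lit 16, nat_lit 32, nat_lit 448]⟩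
/-- cycle type (1, 1, 1, 2, 4) -/
def a9_4a : Cls := ⟨nat_lit 0x876450321, 24, [nat_lit 15, nat_lit 2, nat_lit 4, nat_lit 8, nat_lit 48, nat_lit 32, nat_lit 448]⟩
/-- cycle type (1, 4, 4) -/
def a9_4b : Cls := ⟨nat_lit 0x758614320, 16, [nat_lit 1, nat_lit 510, nat_lit 4, nat_lit 8, nat_lit 16, nat_lit 288, nat_lit 64]⟩
/-- cycle type (1, 1, 1, 1, 5) -/
def a9_5a : Cls := ⟨nat_lit 0x876053421, 60, [nat_lit 55, nat_lit 2, nat_lit 4, nat_lit 456, nat_lit 16, nat_lit 32, nat_lit 448]⟩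
/-- cycle type (1, 1, 2, 2, 3) -/
def a9_6a : Cls := ⟨nat_lit 0x784653120, 24, [nat_lit 9, nat_lit 390, nat_lit 4, nat_lit 8, nat_lit 112, nat_lit 32, nat_lit 64]⟩
/-- cycle type (1, 2, 6) -/
def a9_6b : Cls := ⟨nat_lit 0x781654320, 6, [nat_lit 1, nat_lit 126, nat_lit 4, nat_lit 8, nat_lit 16, nat_lit 32, nat_lit 64]⟩
/-- cycle type (1, 1, 7) -/
def a9_7a : Cls := ⟨nat_lit 0x870654321, 7, [nat_lit 127, nat_lit 2, nat_lit 4, nat_lit 8, nat_lit 16, nat_lit 32, nat_lit 64]⟩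
/-- cycle type (9,) -/
def a9_9a : Cls := ⟨nat_lit 0x708654321, 9, [nat_lit 511, nat_lit 2, nat_lit 4, nat_lit 8, nat_lit 16, nat_lit 32, nat_lit 64]⟩
/-- cycle type (9,) -/
def a9_9b : Cls := ⟨nat_lit 0x87654321, 9, [nat_lit 511, nat_lit 2, nat_lit 4, nat_lit 8, nat_lit 16, nat_lit 32, nat_lit 64]⟩
/-- cycle type (2, 2, 5) -/
def a9_10a : Cls := ⟨nat_lit 0x785604321, 20, [nat_lit 31, nat_lit 2, nat_lit 4, nat_lit 8, nat_lit 16, nat_lit 480, nat_lit 64]⟩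
/-- cycle type (2, 3, 4) -/
def a9_12a : Cls := ⟨nat_lit 0x784650321, 12, [nat_lit 15, nat_lit 2, nat_lit 4, nat_lit 8, nat_lit 112, nat_lit 32, nat_lit 64]⟩
/-- cycle type (1, 3, 5) -/
def a9_15a : Cls := ⟨nat_lit 0x578604321, 15, [nat_lit 31, nat_lit 2, nat_lit 4, nat_lit 8, nat_lit 16, nat_lit 352, nat_lit 64]⟩
/-- cycle type (1, 3, 5) -/
def a9_15b : Cls := ⟨nat_lit 0x378654021, 15, [nat_lit 7, nat_lit 2, nat_lit 4, nat_lit 376, nat_lit 16, nat_lit 32, nat_lit 64]⟩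
def a9Cl : List Cls := [a9_1a, a9_2a, a9_2b, a9_3a, a9_3b, a9_3c, a9_4a, a9_4b, a9_5a, a9_6a, a9_6b, a9_7a, a9_9a, a9_9b, a9_10a, a9_12a, a9_15a, a9_15b]
theorem a9_classes : a9E.ClassList (alternatingGroup (Fin 9)) a9Cl :=
  a9_chain.classList (a9E.fixes_zero _) (allL_iff.1 (by decide +kernel)) (by decide +kernel) a9_card
    (by decide +kernel)

def s3G : List ℕ := [nat_lit 33, nat_lit 9]
def s3CL0 : Lev := ⟨nat_lit 0, nat_lit 7, (.node (nat_lit 1) (.leaf (nat_lit 36)) (.node (nat_lit 2) (.leaf (nat_lit 33)) (.leaf (nat_lit 9))))⟩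
def s3CC0 : LevCert := ⟨s3CL0,
    [(nat_lit 1, nat_lit 0), (nat_lit 2, nat_lit 1)],
    [[nat_lit 2, nat_lit 0, nat_lit 0, nat_lit 0, nat_lit 2, nat_lit 2]],
    [nat_lit 24]⟩
def s3CL1 : Lev := ⟨nat_lit 1, nat_lit 6, (.node (nat_lit 2) (.leaf (nat_lit 36)) (.leaf (nat_lit 24)))⟩
def s3CC1 : LevCert := ⟨s3CL1,
    [(nat_lit 2, nat_lit 0)],
    [],
    []⟩
def s3C : List LevCert := [s3CC0, s3CC1]
def s3CL : List Lev := [s3CL0, s3CL1]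
abbrev s3E : Enc (Fin 3) 3 2 4 := finEnc 3 2 4 rfl (by decide)
theorem s3_chain : s3E.IsChain s3CL ⊤ :=
  chain_top (gens := s3G) (cert := s3C) (by decide +kernel)
theorem s3_card : Nat.card (⊤ : Subgroup (Equiv.Perm (Fin 3))) = 6 := s3_chain.card.trans (by decide +kernel)
/-- cycle type (1, 1, 1) -/
def s3_1a : Cls := ⟨nat_lit 36, 6, [nat_lit 7, nat_lit 6]⟩
/-- cycle type (1, 2) -/
def s3_2a : Cls := ⟨nat_lit 24, 2, [nat_lit 1, nat_lit 6]⟩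
/-- cycle type (3,) -/
def s3_3a : Cls := ⟨nat_lit 9, 3, [nat_lit 7, nat_lit 2]⟩
def s3Cl : List Cls := [s3_1a, s3_2a, s3_3a]
theorem s3_classes : s3E.ClassList (⊤ : Subgroup (Equiv.Perm (Fin 3))) s3Cl :=
  s3_chain.classList (s3E.fixes_zero _) (allL_iff.1 (by decide +kernel)) (by decide +kernel) s3_card
    (by decide +kernel)

def s4G : List ℕ := [nat_lit 225, nat_lit 57]
def s4CL0 : Lev := ⟨nat_lit 0, nat_lit 15, (.node (nat_lit 2) (.node (nat_lit 1) (.leaf (nat_lit 228)) (.leaf (nat_lit 225))) (.node (nat_lit 3) (.leaf (nat_lit 78)) (.leaf (nat_lit 57))))⟩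
def s4CC0 : LevCert := ⟨s4CL0,
    [(nat_lit 1, nat_lit 0), (nat_lit 3, nat_lit 1), (nat_lit 2, nat_lit 1)],
    [[nat_lit 2, nat_lit 2, nat_lit 2, nat_lit 0], [nat_lit 4, nat_lit 4, nat_lit 2, nat_lit 4, nat_lit 4]],
    [nat_lit 156, nat_lit 180]⟩
def s4CL1 : Lev := ⟨nat_lit 1, nat_lit 14, (.node (nat_lit 2) (.leaf (nat_lit 228)) (.node (nat_lit 3) (.leaf (nat_lit 156)) (.leaf (nat_lit 120))))⟩
def s4CC1 : LevCert := ⟨s4CL1,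
    [(nat_lit 2, nat_lit 0), (nat_lit 3, nat_lit 0)],
    [[nat_lit 2, nat_lit 0, nat_lit 0, nat_lit 0]],
    [nat_lit 180]⟩
def s4CL2 : Lev := ⟨nat_lit 2, nat_lit 12, (.node (nat_lit 3) (.leaf (nat_lit 228)) (.leaf (nat_lit 180)))⟩
def s4CC2 : LevCert := ⟨s4CL2,
    [(nat_lit 3, nat_lit 0)],
    [],
    []⟩
def s4C : List LevCert := [s4CC0, s4CC1, s4CC2]
def s4CL : List Lev := [s4CL0, s4CL1, s4CL2]
abbrev s4E : Enc (Fin 4) 4 2 4 := finEnc 4 2 4 rfl (by decide)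
theorem s4_chain : s4E.IsChain s4CL ⊤ :=
  chain_top (gens := s4G) (cert := s4C) (by decide +kernel)
theorem s4_card : Nat.card (⊤ : Subgroup (Equiv.Perm (Fin 4))) = 24 := s4_chain.card.trans (by decide +kernel)
/-- cycle type (1, 1, 1, 1) -/
def s4_1a : Cls := ⟨nat_lit 228, 24, [nat_lit 15, nat_lit 14, nat_lit 12]⟩
/-- cycle type (2, 2) -/
def s4_2a : Cls := ⟨nat_lit 177, 8, [nat_lit 15, nat_lit 2, nat_lit 12]⟩
/-- cycle type (1, 1, 2) -/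
def s4_2b : Cls := ⟨nat_lit 225, 4, [nat_lit 3, nat_lit 2, nat_lit 12]⟩
/-- cycle type (1, 3) -/
def s4_3a : Cls := ⟨nat_lit 201, 3, [nat_lit 7, nat_lit 2, nat_lit 4]⟩
/-- cycle type (4,) -/
def s4_4a : Cls := ⟨nat_lit 57, 4, [nat_lit 15, nat_lit 2, nat_lit 4]⟩
def s4Cl : List Cls := [s4_1a, s4_2a, s4_2b, s4_3a, s4_4a]
theorem s4_classes : s4E.ClassList (⊤ : Subgroup (Equiv.Perm (Fin 4))) s4Cl :=
  s4_chain.classList (s4E.fixes_zero _) (allL_iff.1 (by decide +kernel)) (by decide +kernel) s4_card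
    (by decide +kernel)

def s5G : List ℕ := [nat_lit 0x4681, nat_lit 0x8d1]
def s5CL0 : Lev := ⟨nat_lit 0, nat_lit 31, (.node (nat_lit 2) (.node (nat_lit 1) (.leaf (nat_lit 0x4688)) (.leaf (nat_lit 0x4681))) (.node (nat_lit 3) (.leaf (nat_lit 0x2223)) (.node (nat_lit 4) (.leaf (nat_lit 0x111a)) (.leaf (nat_lit 0x8d1)))))⟩
def s5CC0 : LevCert := ⟨s5CL0,
    [(nat_lit 1, nat_lit 0), (nat_lit 4, nat_lit 1), (nat_lit 3, nat_lit 1), (nat_lit 2, nat_lit 1)],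
    [[nat_lit 2, nat_lit 2, nat_lit 2, nat_lit 0, nat_lit 0, nat_lit 2, nat_lit 0, nat_lit 0, nat_lit 2, nat_lit 0, nat_lit 2], [nat_lit 4, nat_lit 4, nat_lit 4, nat_lit 2, nat_lit 4, nat_lit 4]],
    [nat_lit 0x18d0, nat_lit 0x3888]⟩
def s5CL1 : Lev := ⟨nat_lit 1, nat_lit 30, (.node (nat_lit 3) (.node (nat_lit 2) (.leaf (nat_lit 0x4688)) (.leaf (nat_lit 0x3460))) (.node (nat_lit 4) (.leaf (nat_lit 0x2318)) (.leaf (nat_lit 0x18d0))))⟩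
def s5CC1 : LevCert := ⟨s5CL1,
    [(nat_lit 4, nat_lit 0), (nat_lit 3, nat_lit 0), (nat_lit 2, nat_lit 0)],
    [[nat_lit 0, nat_lit 0, nat_lit 0, nat_lit 0, nat_lit 2], [nat_lit 4, nat_lit 2, nat_lit 4, nat_lit 2, nat_lit 2, nat_lit 4]],
    [nat_lit 0x3888, nat_lit 0x28c8]⟩
def s5CL2 : Lev := ⟨nat_lit 2, nat_lit 28, (.node (nat_lit 3) (.leaf (nat_lit 0x4688)) (.node (nat_lit 4) (.leaf (nat_lit 0x44c8)) (.leaf (nat_lit 0x28c8))))⟩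
def s5CC2 : LevCert := ⟨s5CL2,
    [(nat_lit 4, nat_lit 1), (nat_lit 3, nat_lit 0)],
    [[nat_lit 2, nat_lit 2, nat_lit 2, nat_lit 0, nat_lit 0, nat_lit 0]],
    [nat_lit 0x3888]⟩
def s5CL3 : Lev := ⟨nat_lit 3, nat_lit 24, (.node (nat_lit 4) (.leaf (nat_lit 0x4688)) (.leaf (nat_lit 0x3888)))⟩
def s5CC3 : LevCert := ⟨s5CL3,
    [(nat_lit 4, nat_lit 0)],
    [],
    []⟩
def s5C : List LevCert := [s5CC0, s5CC1, s5CC2, s5CC3]
def s5CL : List Lev := [s5CL0, s5CL1, s5CL2, s5CL3]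
abbrev s5E : Enc (Fin 5) 5 3 8 := finEnc 5 3 8 rfl (by decide)
theorem s5_chain : s5E.IsChain s5CL ⊤ :=
  chain_top (gens := s5G) (cert := s5C) (by decide +kernel)
theorem s5_card : Nat.card (⊤ : Subgroup (Equiv.Perm (Fin 5))) = 120 := s5_chain.card.trans (by decide +kernel)
/-- cycle type (1, 1, 1, 1, 1) -/
def s5_1a : Cls := ⟨nat_lit 0x4688, 120, [nat_lit 31, nat_lit 30, nat_lit 28, nat_lit 24]⟩
/-- cycle type (1, 1, 1, 2) -/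
def s5_2a : Cls := ⟨nat_lit 0x4681, 12, [nat_lit 3, nat_lit 2, nat_lit 28, nat_lit 24]⟩
/-- cycle type (1, 2, 2) -/
def s5_2b : Cls := ⟨nat_lit 0x44c1, 8, [nat_lit 15, nat_lit 2, nat_lit 12, nat_lit 8]⟩
/-- cycle type (1, 1, 3) -/
def s5_3a : Cls := ⟨nat_lit 0x4611, 6, [nat_lit 7, nat_lit 2, nat_lit 4, nat_lit 24]⟩
/-- cycle type (1, 4) -/
def s5_4a : Cls := ⟨nat_lit 0x4443, 4, [nat_lit 15, nat_lit 2, nat_lit 4, nat_lit 8]⟩
/-- cycle type (5,) -/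
def s5_5a : Cls := ⟨nat_lit 0x8d1, 5, [nat_lit 31, nat_lit 2, nat_lit 4, nat_lit 8]⟩
/-- cycle type (2, 3) -/
def s5_6a : Cls := ⟨nat_lit 0x4e1, 6, [nat_lit 19, nat_lit 2, nat_lit 12, nat_lit 8]⟩
def s5Cl : List Cls := [s5_1a, s5_2a, s5_2b, s5_3a, s5_4a, s5_5a, s5_6a]
theorem s5_classes : s5E.ClassList (⊤ : Subgroup (Equiv.Perm (Fin 5))) s5Cl :=
  s5_chain.classList (s5E.fixes_zero _) (allL_iff.1 (by decide +kernel)) (by decide +kernel) s5_card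
    (by decide +kernel)

def s6G : List ℕ := [nat_lit 0x2c681, nat_lit 0x58d1]
def s6CL0 : Lev := ⟨nat_lit 0, nat_lit 63, (.node (nat_lit 3) (.node (nat_lit 1) (.leaf (nat_lit 0x2c688)) (.node (nat_lit 2) (.leaf (nat_lit 0x2c681)) (.leaf (nat_lit 0x1a22c)))) (.node (nat_lit 4) (.leaf (nat_lit 0x11163)) (.node (nat_lit 5) (.leaf (nat_lit 0x8b1a)) (.leaf (nat_lit 0x58d1)))))⟩
def s6CC0 : LevCert := ⟨s6CL0,
    [(nat_lit 1, nat_lit 0), (nat_lit 5, nat_lit 1), (nat_lit 4, nat_lit 1), (nat_lit 3, nat_lit 1), (nat_lit 2, nat_lit 1)],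
    [[nat_lit 2, nat_lit 2, nat_lit 2, nat_lit 0, nat_lit 2, nat_lit 0, nat_lit 0, nat_lit 0, nat_lit 2, nat_lit 2], [nat_lit 4, nat_lit 4, nat_lit 4, nat_lit 2, nat_lit 2, nat_lit 2, nat_lit 2, nat_lit 4, nat_lit 2, nat_lit 4, nat_lit 2]],
    [nat_lit 0x1d888, nat_lit 0x2b460]⟩
def s6CL1 : Lev := ⟨nat_lit 1, nat_lit 62, (.node (nat_lit 3) (.node (nat_lit 2) (.leaf (nat_lit 0x2c688)) (.leaf (nat_lit 0x2b460))) (.node (nat_lit 4) (.leaf (nat_lit 0x2a318)) (.node (nat_lit 5) (.leaf (nat_lit 0x298d0)) (.leaf (nat_lit 0xd518)))))⟩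
def s6CC1 : LevCert := ⟨s6CL1,
    [(nat_lit 2, nat_lit 1), (nat_lit 3, nat_lit 1), (nat_lit 5, nat_lit 0), (nat_lit 4, nat_lit 1)],
    [[nat_lit 2, nat_lit 2, nat_lit 2, nat_lit 0, nat_lit 0, nat_lit 0, nat_lit 0, nat_lit 2, nat_lit 2, nat_lit 0], [nat_lit 4, nat_lit 2, nat_lit 2, nat_lit 2, nat_lit 4, nat_lit 4, nat_lit 4, nat_lit 2, nat_lit 2]],
    [nat_lit 0x14748, nat_lit 0x23a88]⟩
def s6CL2 : Lev := ⟨nat_lit 2, nat_lit 60, (.node (nat_lit 4) (.node (nat_lit 3) (.leaf (nat_lit 0x2c688)) (.leaf (nat_lit 0x23548))) (.node (nat_lit 5) (.leaf (nat_lit 0x1a948)) (.leaf (nat_lit 0x14748))))⟩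
def s6CC2 : LevCert := ⟨s6CL2,
    [(nat_lit 5, nat_lit 0), (nat_lit 3, nat_lit 1), (nat_lit 4, nat_lit 1)],
    [[nat_lit 0, nat_lit 0, nat_lit 2], [nat_lit 2, nat_lit 4, nat_lit 4, nat_lit 4, nat_lit 4, nat_lit 4, nat_lit 2, nat_lit 4, nat_lit 2]],
    [nat_lit 0x23a88, nat_lit 0x1ca88]⟩
def s6CL3 : Lev := ⟨nat_lit 3, nat_lit 56, (.node (nat_lit 4) (.leaf (nat_lit 0x2c688)) (.node (nat_lit 5) (.leaf (nat_lit 0x23a88)) (.leaf (nat_lit 0x1ca88))))⟩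
def s6CC3 : LevCert := ⟨s6CL3,
    [(nat_lit 4, nat_lit 0), (nat_lit 5, nat_lit 1)],
    [[nat_lit 2, nat_lit 0]],
    [nat_lit 0x25688]⟩
def s6CL4 : Lev := ⟨nat_lit 4, nat_lit 48, (.node (nat_lit 5) (.leaf (nat_lit 0x2c688)) (.leaf (nat_lit 0x25688)))⟩
def s6CC4 : LevCert := ⟨s6CL4,
    [(nat_lit 5, nat_lit 0)],
    [],
    []⟩
def s6C : List LevCert := [s6CC0, s6CC1, s6CC2, s6CC3, s6CC4]
def s6CL : List Lev := [s6CL0, s6CL1, s6CL2, s6CL3, s6CL4]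
abbrev s6E : Enc (Fin 6) 6 3 8 := finEnc 6 3 8 rfl (by decide)
theorem s6_chain : s6E.IsChain s6CL ⊤ :=
  chain_top (gens := s6G) (cert := s6C) (by decide +kernel)
theorem s6_card : Nat.card (⊤ : Subgroup (Equiv.Perm (Fin 6))) = 720 := s6_chain.card.trans (by decide +kernel)
/-- cycle type (1, 1, 1, 1, 1, 1) -/
def s6_1a : Cls := ⟨nat_lit 0x2c688, 720, [nat_lit 63, nat_lit 62, nat_lit 60, nat_lit 56, nat_lit 48]⟩
/-- cycle type (2, 2, 2) -/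
def s6_2a : Cls := ⟨nat_lit 0x254c1, 48, [nat_lit 63, nat_lit 2, nat_lit 60, nat_lit 8, nat_lit 48]⟩
/-- cycle type (1, 1, 1, 1, 2) -/
def s6_2b : Cls := ⟨nat_lit 0x2c650, 48, [nat_lit 57, nat_lit 6, nat_lit 4, nat_lit 56, nat_lit 48]⟩
/-- cycle type (1, 1, 2, 2) -/
def s6_2c : Cls := ⟨nat_lit 0x25681, 16, [nat_lit 51, nat_lit 2, nat_lit 12, nat_lit 8, nat_lit 48]⟩
/-- cycle type (3, 3) -/
def s6_3a : Cls := ⟨nat_lit 0x1d811, 18, [nat_lit 63, nat_lit 2, nat_lit 4, nat_lit 56, nat_lit 16]⟩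
/-- cycle type (1, 1, 1, 3) -/
def s6_3b : Cls := ⟨nat_lit 0x2c611, 18, [nat_lit 7, nat_lit 2, nat_lit 4, nat_lit 56, nat_lit 48]⟩
/-- cycle type (2, 4) -/
def s6_4a : Cls := ⟨nat_lit 0x158c1, 8, [nat_lit 3, nat_lit 2, nat_lit 60, nat_lit 8, nat_lit 16]⟩
/-- cycle type (1, 1, 4) -/
def s6_4b : Cls := ⟨nat_lit 0x158c8, 8, [nat_lit 3, nat_lit 2, nat_lit 60, nat_lit 8, nat_lit 16]⟩
/-- cycle type (1, 5) -/
def s6_5a : Cls := ⟨nat_lit 0x288d1, 5, [nat_lit 31, nat_lit 2, nat_lit 4, nat_lit 8, nat_lit 16]⟩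
/-- cycle type (6,) -/
def s6_6a : Cls := ⟨nat_lit 0x58d1, 6, [nat_lit 63, nat_lit 2, nat_lit 4, nat_lit 8, nat_lit 16]⟩
/-- cycle type (1, 2, 3) -/
def s6_6b : Cls := ⟨nat_lit 0x2a8c1, 6, [nat_lit 3, nat_lit 2, nat_lit 28, nat_lit 8, nat_lit 16]⟩
def s6Cl : List Cls := [s6_1a, s6_2a, s6_2b, s6_2c, s6_3a, s6_3b, s6_4a, s6_4b, s6_5a, s6_6a, s6_6b]
theorem s6_classes : s6E.ClassList (⊤ : Subgroup (Equiv.Perm (Fin 6))) s6Cl :=
  s6_chain.classList (s6E.fixes_zero _) (allL_iff.1 (by decide +kernel)) (by decide +kernel) s6_card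
    (by decide +kernel)

def s7G : List ℕ := [nat_lit 0x1ac681, nat_lit 0x358d1]
def s7CL0 : Lev := ⟨nat_lit 0, nat_lit 127, (.node (nat_lit 3) (.node (nat_lit 1) (.leaf (nat_lit 0x1ac688)) (.node (nat_lit 2) (.leaf (nat_lit 0x1ac681)) (.leaf (nat_lit 0x11a235)))) (.node (nat_lit 5) (.node (nat_lit 4) (.leaf (nat_lit 0xd11ac)) (.leaf (nat_lit 0x88d63))) (.node (nat_lit 6) (.leaf (nat_lit 0x46b1a)) (.leaf (nat_lit 0x358d1)))))⟩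
def s7CC0 : LevCert := ⟨s7CL0,
    [(nat_lit 1, nat_lit 0), (nat_lit 6, nat_lit 1), (nat_lit 5, nat_lit 1), (nat_lit 4, nat_lit 1), (nat_lit 3, nat_lit 1), (nat_lit 2, nat_lit 1)],
    [[nat_lit 0, nat_lit 2], [nat_lit 4, nat_lit 4, nat_lit 4, nat_lit 4, nat_lit 4, nat_lit 2, nat_lit 4, nat_lit 2]],
    [nat_lit 0x758d0, nat_lit 0x1a3468]⟩
def s7CL1 : Lev := ⟨nat_lit 1, nat_lit 126, (.node (nat_lit 4) (.node (nat_lit 2) (.leaf (nat_lit 0x1ac688)) (.node (nat_lit 3) (.leaf (nat_lit 0x1a3468)) (.leaf (nat_lit 0x19a360)))) (.node (nat_lit 5) (.leaf (nat_lit 0xd1d60)) (.node (nat_lit 6) (.leaf (nat_lit 0x8eb18)) (.leaf (nat_lit 0x758d0)))))⟩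
def s7CC1 : LevCert := ⟨s7CL1,
    [(nat_lit 6, nat_lit 0), (nat_lit 2, nat_lit 1), (nat_lit 5, nat_lit 0), (nat_lit 3, nat_lit 1), (nat_lit 4, nat_lit 0)],
    [[nat_lit 0, nat_lit 0, nat_lit 2], [nat_lit 2, nat_lit 2, nat_lit 2, nat_lit 4, nat_lit 4, nat_lit 4, nat_lit 4, nat_lit 4, nat_lit 4, nat_lit 4]],
    [nat_lit 0xb58c8, nat_lit 0xf5888]⟩
def s7CL2 : Lev := ⟨nat_lit 2, nat_lit 124, (.node (nat_lit 4) (.node (nat_lit 3) (.leaf (nat_lit 0x1ac688)) (.leaf (nat_lit 0x163588))) (.node (nat_lit 5) (.leaf (nat_lit 0x11ad48)) (.node (nat_lit 6) (.leaf (nat_lit 0xd6b08)) (.leaf (nat_lit 0xb58c8)))))⟩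
def s7CC2 : LevCert := ⟨s7CL2,
    [(nat_lit 6, nat_lit 0), (nat_lit 5, nat_lit 0), (nat_lit 4, nat_lit 0), (nat_lit 3, nat_lit 0)],
    [[nat_lit 0, nat_lit 0, nat_lit 0, nat_lit 2, nat_lit 0, nat_lit 2, nat_lit 2, nat_lit 2, nat_lit 2], [nat_lit 2, nat_lit 2, nat_lit 2, nat_lit 2, nat_lit 2, nat_lit 4]],
    [nat_lit 0x174688, nat_lit 0xf5888]⟩
def s7CL3 : Lev := ⟨nat_lit 3, nat_lit 120, (.node (nat_lit 5) (.node (nat_lit 4) (.leaf (nat_lit 0x1ac688)) (.leaf (nat_lit 0x133a88))) (.node (nat_lit 6) (.leaf (nat_lit 0x19d888)) (.leaf (nat_lit 0xf5888))))⟩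
def s7CC3 : LevCert := ⟨s7CL3,
    [(nat_lit 6, nat_lit 1), (nat_lit 5, nat_lit 0), (nat_lit 4, nat_lit 1)],
    [[nat_lit 2, nat_lit 0, nat_lit 2, nat_lit 2, nat_lit 2, nat_lit 0, nat_lit 0, nat_lit 2, nat_lit 2, nat_lit 0, nat_lit 2], [nat_lit 4, nat_lit 2, nat_lit 2, nat_lit 2, nat_lit 4, nat_lit 4, nat_lit 2]],
    [nat_lit 0x174688, nat_lit 0x12e688]⟩
def s7CL4 : Lev := ⟨nat_lit 4, nat_lit 112, (.node (nat_lit 5) (.leaf (nat_lit 0x1ac688)) (.node (nat_lit 6) (.leaf (nat_lit 0x166688)) (.leaf (nat_lit 0x12e688))))⟩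
def s7CC4 : LevCert := ⟨s7CL4,
    [(nat_lit 6, nat_lit 1), (nat_lit 5, nat_lit 0)],
    [[nat_lit 2, nat_lit 2, nat_lit 2, nat_lit 2, nat_lit 0]],
    [nat_lit 0x174688]⟩
def s7CL5 : Lev := ⟨nat_lit 5, nat_lit 96, (.node (nat_lit 6) (.leaf (nat_lit 0x1ac688)) (.leaf (nat_lit 0x174688)))⟩
def s7CC5 : LevCert := ⟨s7CL5,
    [(nat_lit 6, nat_lit 0)],
    [],
    []⟩
def s7C : List LevCert := [s7CC0, s7CC1, s7CC2, s7CC3, s7CC4, s7CC5]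
def s7CL : List Lev := [s7CL0, s7CL1, s7CL2, s7CL3, s7CL4, s7CL5]
abbrev s7E : Enc (Fin 7) 7 3 8 := finEnc 7 3 8 rfl (by decide)
theorem s7_chain : s7E.IsChain s7CL ⊤ :=
  chain_top (gens := s7G) (cert := s7C) (by decide +kernel)
theorem s7_card : Nat.card (⊤ : Subgroup (Equiv.Perm (Fin 7))) = 5040 := s7_chain.card.trans (by decide +kernel)
/-- cycle type (1, 1, 1, 1, 1, 1, 1) -/
def s7_1a : Cls := ⟨nat_lit 0x1ac688, 5040, [nat_lit 127, nat_lit 126, nat_lit 124, nat_lit 120, nat_lit 112, nat_lit 96]⟩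
/-- cycle type (1, 1, 1, 1, 1, 2) -/
def s7_2a : Cls := ⟨nat_lit 0x174688, 240, [nat_lit 31, nat_lit 30, nat_lit 28, nat_lit 24, nat_lit 16, nat_lit 96]⟩
/-- cycle type (1, 1, 1, 2, 2) -/
def s7_2b : Cls := ⟨nat_lit 0x1ab881, 48, [nat_lit 27, nat_lit 2, nat_lit 100, nat_lit 24, nat_lit 16, nat_lit 96]⟩
/-- cycle type (1, 2, 2, 2) -/
def s7_2c : Cls := ⟨nat_lit 0x173881, 48, [nat_lit 123, nat_lit 2, nat_lit 4, nat_lit 120, nat_lit 16, nat_lit 96]⟩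
/-- cycle type (1, 1, 1, 1, 3) -/
def s7_3a : Cls := ⟨nat_lit 0x1aa8c8, 72, [nat_lit 99, nat_lit 98, nat_lit 28, nat_lit 8, nat_lit 16, nat_lit 96]⟩
/-- cycle type (1, 3, 3) -/
def s7_3b : Cls := ⟨nat_lit 0x135458, 18, [nat_lit 1, nat_lit 126, nat_lit 4, nat_lit 8, nat_lit 112, nat_lit 32]⟩
/-- cycle type (1, 1, 1, 4) -/
def s7_4a : Cls := ⟨nat_lit 0x1ac0d1, 24, [nat_lit 15, nat_lit 2, nat_lit 4, nat_lit 8, nat_lit 112, nat_lit 96]⟩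
/-- cycle type (1, 2, 4) -/
def s7_4b : Cls := ⟨nat_lit 0x1718d0, 8, [nat_lit 1, nat_lit 30, nat_lit 4, nat_lit 8, nat_lit 16, nat_lit 96]⟩
/-- cycle type (1, 1, 5) -/
def s7_5a : Cls := ⟨nat_lit 0xb58c8, 10, [nat_lit 3, nat_lit 2, nat_lit 124, nat_lit 8, nat_lit 16, nat_lit 32]⟩
/-- cycle type (2, 2, 3) -/
def s7_6a : Cls := ⟨nat_lit 0x173811, 24, [nat_lit 7, nat_lit 2, nat_lit 4, nat_lit 120, nat_lit 16, nat_lit 96]⟩
/-- cycle type (1, 1, 2, 3) -/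
def s7_6b : Cls := ⟨nat_lit 0x19d850, 12, [nat_lit 65, nat_lit 6, nat_lit 4, nat_lit 56, nat_lit 16, nat_lit 32]⟩
/-- cycle type (1, 6) -/
def s7_6c : Cls := ⟨nat_lit 0x1858d1, 6, [nat_lit 63, nat_lit 2, nat_lit 4, nat_lit 8, nat_lit 16, nat_lit 32]⟩
/-- cycle type (7,) -/
def s7_7a : Cls := ⟨nat_lit 0x1468d1, 7, [nat_lit 127, nat_lit 2, nat_lit 4, nat_lit 8, nat_lit 16, nat_lit 32]⟩
/-- cycle type (2, 5) -/
def s7_10a : Cls := ⟨nat_lit 0xb58c1, 10, [nat_lit 3, nat_lit 2, nat_lit 124, nat_lit 8, nat_lit 16, nat_lit 32]⟩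
/-- cycle type (3, 4) -/
def s7_12a : Cls := ⟨nat_lit 0x1350d1, 12, [nat_lit 15, nat_lit 2, nat_lit 4, nat_lit 8, nat_lit 112, nat_lit 32]⟩
def s7Cl : List Cls := [s7_1a, s7_2a, s7_2b, s7_2c, s7_3a, s7_3b, s7_4a, s7_4b, s7_5a, s7_6a, s7_6b, s7_6c, s7_7a, s7_10a, s7_12a]
theorem s7_classes : s7E.ClassList (⊤ : Subgroup (Equiv.Perm (Fin 7))) s7Cl :=
  s7_chain.classList (s7E.fixes_zero _) (allL_iff.1 (by decide +kernel)) (by decide +kernel) s7_card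
    (by decide +kernel)

def s8G : List ℕ := [nat_lit 0xfac681, nat_lit 0x1f58d1]
def s8CL0 : Lev := ⟨nat_lit 0, nat_lit 255, (.node (nat_lit 4) (.node (nat_lit 2) (.node (nat_lit 1) (.leaf (nat_lit 0xfac688)) (.leaf (nat_lit 0xfac681))) (.node (nat_lit 3) (.leaf (nat_lit 0xb1a23e)) (.leaf (nat_lit 0x8d11f5)))) (.node (nat_lit 6) (.node (nat_lit 5) (.leaf (nat_lit 0x688fac)) (.leaf (nat_lit 0x447d63))) (.node (nat_lit 7) (.leaf (nat_lit 0x23eb1a)) (.leaf (nat_lit 0x1f58d1)))))⟩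
def s8CC0 : LevCert := ⟨s8CL0,
    [(nat_lit 1, nat_lit 0), (nat_lit 7, nat_lit 1), (nat_lit 6, nat_lit 1), (nat_lit 5, nat_lit 1), (nat_lit 4, nat_lit 1), (nat_lit 3, nat_lit 1), (nat_lit 2, nat_lit 1)],
    [[nat_lit 2, nat_lit 2, nat_lit 2, nat_lit 2, nat_lit 2, nat_lit 2, nat_lit 2, nat_lit 0], [nat_lit 4, nat_lit 4, nat_lit 4, nat_lit 2, nat_lit 4, nat_lit 2, nat_lit 4, nat_lit 2, nat_lit 4, nat_lit 4, nat_lit 2]],
    [nat_lit 0xd63478, nat_lit 0x7ac478]⟩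
def s8CL1 : Lev := ⟨nat_lit 1, nat_lit 254, (.node (nat_lit 4) (.node (nat_lit 2) (.leaf (nat_lit 0xfac688)) (.node (nat_lit 3) (.leaf (nat_lit 0xd63478)) (.leaf (nat_lit 0xb1a3f0)))) (.node (nat_lit 6) (.node (nat_lit 5) (.leaf (nat_lit 0x8d1fa8)) (.leaf (nat_lit 0x68fd60))) (.node (nat_lit 7) (.leaf (nat_lit 0x47eb18)) (.leaf (nat_lit 0x31afa8)))))⟩
def s8CC1 : LevCert := ⟨s8CL1,
    [(nat_lit 2, nat_lit 0), (nat_lit 3, nat_lit 0), (nat_lit 4, nat_lit 0), (nat_lit 7, nat_lit 1), (nat_lit 5, nat_lit 0), (nat_lit 6, nat_lit 0)],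
    [[nat_lit 2, nat_lit 2, nat_lit 2, nat_lit 0, nat_lit 2, nat_lit 0, nat_lit 2, nat_lit 2], [nat_lit 2, nat_lit 2, nat_lit 4, nat_lit 2]],
    [nat_lit 0xd3a748, nat_lit 0x8d7d48]⟩
def s8CL2 : Lev := ⟨nat_lit 2, nat_lit 252, (.node (nat_lit 5) (.node (nat_lit 3) (.leaf (nat_lit 0xfac688)) (.node (nat_lit 4) (.leaf (nat_lit 0xafc588)) (.leaf (nat_lit 0xd3a748)))) (.node (nat_lit 6) (.leaf (nat_lit 0x8d7d48)) (.node (nat_lit 7) (.leaf (nat_lit 0x8b57c8)) (.leaf (nat_lit 0x4ee9c8)))))⟩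
def s8CC2 : LevCert := ⟨s8CL2,
    [(nat_lit 4, nat_lit 0), (nat_lit 5, nat_lit 1), (nat_lit 6, nat_lit 0), (nat_lit 7, nat_lit 1), (nat_lit 3, nat_lit 1)],
    [[nat_lit 2, nat_lit 2, nat_lit 2, nat_lit 0, nat_lit 0, nat_lit 2, nat_lit 0, nat_lit 2], [nat_lit 4, nat_lit 2, nat_lit 4, nat_lit 4]],
    [nat_lit 0x766e88, nat_lit 0x7e5c88]⟩
def s8CL3 : Lev := ⟨nat_lit 3, nat_lit 248, (.node (nat_lit 5) (.node (nat_lit 4) (.leaf (nat_lit 0xfac688)) (.leaf (nat_lit 0xba3e88))) (.node (nat_lit 6) (.leaf (nat_lit 0xf1ea88)) (.node (nat_lit 7) (.leaf (nat_lit 0xef4a88)) (.leaf (nat_lit 0x766e88)))))⟩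
def s8CC3 : LevCert := ⟨s8CL3,
    [(nat_lit 7, nat_lit 0), (nat_lit 6, nat_lit 1), (nat_lit 4, nat_lit 0), (nat_lit 5, nat_lit 0)],
    [[nat_lit 0, nat_lit 0], [nat_lit 2, nat_lit 2, nat_lit 4, nat_lit 2, nat_lit 2, nat_lit 2, nat_lit 4, nat_lit 4, nat_lit 4]],
    [nat_lit 0xf35688, nat_lit 0x9f5688]⟩
def s8CL4 : Lev := ⟨nat_lit 4, nat_lit 240, (.node (nat_lit 6) (.node (nat_lit 5) (.leaf (nat_lit 0xfac688)) (.leaf (nat_lit 0xf66688))) (.node (nat_lit 7) (.leaf (nat_lit 0xf35688)) (.leaf (nat_lit 0x9f5688))))⟩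
def s8CC4 : LevCert := ⟨s8CL4,
    [(nat_lit 6, nat_lit 0), (nat_lit 7, nat_lit 1), (nat_lit 5, nat_lit 0)],
    [[nat_lit 0, nat_lit 2, nat_lit 2, nat_lit 0, nat_lit 2, nat_lit 2], [nat_lit 2, nat_lit 2, nat_lit 2, nat_lit 2, nat_lit 4, nat_lit 4, nat_lit 4, nat_lit 4, nat_lit 4, nat_lit 2]],
    [nat_lit 0xbf4688, nat_lit 0xbbc688]⟩
def s8CL5 : Lev := ⟨nat_lit 5, nat_lit 224, (.node (nat_lit 6) (.leaf (nat_lit 0xfac688)) (.node (nat_lit 7) (.leaf (nat_lit 0xd7c688)) (.leaf (nat_lit 0xbf4688))))⟩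
def s8CC5 : LevCert := ⟨s8CL5,
    [(nat_lit 7, nat_lit 0), (nat_lit 6, nat_lit 0)],
    [[nat_lit 0, nat_lit 0, nat_lit 0, nat_lit 0, nat_lit 0, nat_lit 2, nat_lit 0, nat_lit 0, nat_lit 0, nat_lit 0]],
    [nat_lit 0xdec688]⟩
def s8CL6 : Lev := ⟨nat_lit 6, nat_lit 192, (.node (nat_lit 7) (.leaf (nat_lit 0xfac688)) (.leaf (nat_lit 0xdec688)))⟩
def s8CC6 : LevCert := ⟨s8CL6,
    [(nat_lit 7, nat_lit 0)],
    [],
    []⟩
def s8C : List LevCert := [s8CC0, s8CC1, s8CC2, s8CC3, s8CC4, s8CC5, s8CC6]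
def s8CL : List Lev := [s8CL0, s8CL1, s8CL2, s8CL3, s8CL4, s8CL5, s8CL6]
abbrev s8E : Enc (Fin 8) 8 3 8 := finEnc 8 3 8 rfl (by decide)
theorem s8_chain : s8E.IsChain s8CL ⊤ :=
  chain_top (gens := s8G) (cert := s8C) (by decide +kernel)
theorem s8_card : Nat.card (⊤ : Subgroup (Equiv.Perm (Fin 8))) = 40320 := s8_chain.card.trans (by decide +kernel)
/-- cycle type (1, 1, 1, 1, 1, 1, 1, 1) -/
def s8_1a : Cls := ⟨nat_lit 0xfac688, 40320, [nat_lit 255, nat_lit 254, nat_lit 252, nat_lit 248, nat_lit 240, nat_lit 224, nat_lit 192]⟩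
/-- cycle type (1, 1, 1, 1, 1, 1, 2) -/
def s8_2a : Cls := ⟨nat_lit 0xfac650, 1440, [nat_lit 249, nat_lit 6, nat_lit 4, nat_lit 248, nat_lit 240, nat_lit 224, nat_lit 192]⟩
/-- cycle type (2, 2, 2, 2) -/
def s8_2b : Cls := ⟨nat_lit 0xde54c1, 384, [nat_lit 255, nat_lit 2, nat_lit 252, nat_lit 8, nat_lit 240, nat_lit 32, nat_lit 192]⟩
/-- cycle type (1, 1, 1, 1, 2, 2) -/
def s8_2c : Cls := ⟨nat_lit 0xfac4c1, 192, [nat_lit 15, nat_lit 2, nat_lit 12, nat_lit 8, nat_lit 240, nat_lit 224, nat_lit 192]⟩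
/-- cycle type (1, 1, 2, 2, 2) -/
def s8_2d : Cls := ⟨nat_lit 0xfa54c1, 96, [nat_lit 63, nat_lit 2, nat_lit 60, nat_lit 8, nat_lit 48, nat_lit 32, nat_lit 192]⟩
/-- cycle type (1, 1, 1, 1, 1, 3) -/
def s8_3a : Cls := ⟨nat_lit 0xfac458, 360, [nat_lit 241, nat_lit 14, nat_lit 4, nat_lit 8, nat_lit 240, nat_lit 224, nat_lit 192]⟩
/-- cycle type (1, 1, 3, 3) -/
def s8_3b : Cls := ⟨nat_lit 0x9bd2d0, 36, [nat_lit 65, nat_lit 190, nat_lit 4, nat_lit 8, nat_lit 176, nat_lit 32, nat_lit 64]⟩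
/-- cycle type (1, 1, 1, 1, 4) -/
def s8_4a : Cls := ⟨nat_lit 0xf29686, 96, [nat_lit 83, nat_lit 2, nat_lit 172, nat_lit 168, nat_lit 16, nat_lit 160, nat_lit 64]⟩
/-- cycle type (4, 4) -/
def s8_4b : Cls := ⟨nat_lit 0x9f50d1, 32, [nat_lit 255, nat_lit 2, nat_lit 4, nat_lit 8, nat_lit 240, nat_lit 32, nat_lit 64]⟩
/-- cycle type (2, 2, 4) -/
def s8_4c : Cls := ⟨nat_lit 0xdd58c1, 32, [nat_lit 195, nat_lit 2, nat_lit 60, nat_lit 8, nat_lit 16, nat_lit 32, nat_lit 192]⟩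
/-- cycle type (1, 1, 2, 4) -/
def s8_4d : Cls := ⟨nat_lit 0x9f5681, 16, [nat_lit 3, nat_lit 2, nat_lit 12, nat_lit 8, nat_lit 240, nat_lit 32, nat_lit 64]⟩
/-- cycle type (1, 1, 1, 5) -/
def s8_5a : Cls := ⟨nat_lit 0xeb58c8, 30, [nat_lit 131, nat_lit 130, nat_lit 124, nat_lit 8, nat_lit 16, nat_lit 32, nat_lit 64]⟩
/-- cycle type (1, 1, 1, 2, 3) -/
def s8_6a : Cls := ⟨nat_lit 0xf728c8, 36, [nat_lit 131, nat_lit 130, nat_lit 28, nat_lit 8, nat_lit 16, nat_lit 96, nat_lit 64]⟩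
/-- cycle type (2, 3, 3) -/
def s8_6b : Cls := ⟨nat_lit 0xbf28c1, 36, [nat_lit 3, nat_lit 2, nat_lit 252, nat_lit 8, nat_lit 16, nat_lit 224, nat_lit 64]⟩
/-- cycle type (1, 2, 2, 3) -/
def s8_6c : Cls := ⟨nat_lit 0xf73501, 24, [nat_lit 99, nat_lit 2, nat_lit 28, nat_lit 8, nat_lit 16, nat_lit 96, nat_lit 64]⟩
/-- cycle type (2, 6) -/
def s8_6d : Cls := ⟨nat_lit 0xbe3581, 12, [nat_lit 3, nat_lit 2, nat_lit 252, nat_lit 8, nat_lit 16, nat_lit 32, nat_lit 64]⟩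
/-- cycle type (1, 1, 6) -/
def s8_6e : Cls := ⟨nat_lit 0xf858d1, 12, [nat_lit 63, nat_lit 2, nat_lit 4, nat_lit 8, nat_lit 16, nat_lit 32, nat_lit 192]⟩
/-- cycle type (1, 7) -/
def s8_7a : Cls := ⟨nat_lit 0xc2f8d1, 7, [nat_lit 223, nat_lit 2, nat_lit 4, nat_lit 8, nat_lit 16, nat_lit 32, nat_lit 64]⟩
/-- cycle type (8,) -/
def s8_8a : Cls := ⟨nat_lit 0x1f58d1, 8, [nat_lit 255, nat_lit 2, nat_lit 4, nat_lit 8, nat_lit 16, nat_lit 32, nat_lit 64]⟩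
/-- cycle type (1, 2, 5) -/
def s8_10a : Cls := ⟨nat_lit 0xf708d1, 10, [nat_lit 31, nat_lit 2, nat_lit 4, nat_lit 8, nat_lit 16, nat_lit 96, nat_lit 64]⟩
/-- cycle type (1, 3, 4) -/
def s8_12a : Cls := ⟨nat_lit 0x9f5611, 12, [nat_lit 7, nat_lit 2, nat_lit 4, nat_lit 8, nat_lit 240, nat_lit 32, nat_lit 64]⟩
/-- cycle type (3, 5) -/
def s8_15a : Cls := ⟨nat_lit 0xbf08d1, 15, [nat_lit 31, nat_lit 2, nat_lit 4, nat_lit 8, nat_lit 16, nat_lit 224, nat_lit 64]⟩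
def s8Cl : List Cls := [s8_1a, s8_2a, s8_2b, s8_2c, s8_2d, s8_3a, s8_3b, s8_4a, s8_4b, s8_4c, s8_4d, s8_5a, s8_6a, s8_6b, s8_6c, s8_6d, s8_6e, s8_7a, s8_8a, s8_10a, s8_12a, s8_15a]
theorem s8_classes : s8E.ClassList (⊤ : Subgroup (Equiv.Perm (Fin 8))) s8Cl :=
  s8_chain.classList (s8E.fixes_zero _) (allL_iff.1 (by decide +kernel)) (by decide +kernel) s8_card
    (by decide +kernel)

end Cfsg.Agent.H56.Alt
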