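/-
PSU(3,3) on 28 points (generated by tools_h56/model.py).
-/
import Cfsg.Agent.H56.ClassModel
import Cfsg.Agent.H56.Fields
import Cfsg.Agent.H56.IsoK

set_option autoImplicit false

namespace Cfsg.Agent.H56.U33

open H14

def VT : ℕ := nat_lit 0x321710801501081361311071211041410121161611701221621510661051631261331401131231810111
def R : BT := (.node (nat_lit 817) (.node (nat_lit 353) (.node (nat_lit 129) (.node (nat_lit 81) (.leaf (nat_lit 18)) (.node (nat_lit 113) (.leaf (nat_lit 8)) (.leaf (nat_lit 20)))) (.node (nat_lit 289) (.node (nat_lit 273) (.leaf (nat_lit 23)) (.leaf (nat_lit 0))) (.node (nat_lit 305) (.leaf (nat_lit 16)) (.leaf (nat_lit 3))))) (.node (nat_lit 561) (.node (nat_lit 529) (.leaf (nat_lit 15)) (.node (nat_lit 545) (.leaf (nat_lit 19)) (.leaf (nat_lit 12)))) (.node (nat_lit 785) (.node (nat_lit 609) (.leaf (nat_lit 2)) (.leaf (nat_lit 6))) (.node (nat_lit 801) (.leaf (nat_lit 21)) (.leaf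 (nat_lit 27)))))) (.node (nat_lit 0x621) (.node (nat_lit 0x410) (.node (nat_lit 865) (.leaf (nat_lit 5)) (.node (nat_lit 0x401) (.leaf (nat_lit 22)) (.leaf (nat_lit 4)))) (.node (nat_lit 0x510) (.node (nat_lit 0x501) (.leaf (nat_lit 17)) (.leaf (nat_lit 24))) (.node (nat_lit 0x611) (.leaf (nat_lit 10)) (.leaf (nat_lit 14))))) (.node (nat_lit 0x701) (.node (nat_lit 0x631) (.leaf (nat_lit 11)) (.node (nat_lit 0x661) (.leaf (nat_lit 7)) (.leaf (nat_lit 9)))) (.node (nat_lit 0x801) (.node (nat_lit 0x710) (.leaf (nat_lit 13)) (.leaf (nat_lit 26))) (.node (nat_lit 0x810) (.leaf (nat_lit 25)) (.leaf (nat_lit 1)))))))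
def gs : List (ℕ × ℕ) := [(nat_lit 0x127186813, nat_lit 0xd59577ee548372bc1aa49c44e6212701461), (nat_lit 0x731141265, nat_lit 0xcd5c13ec188e87365ed44ca0f6ad4831482)]
def gens : List ℕ := [nat_lit 0xd59577ee548372bc1aa49c44e6212701461, nat_lit 0xcd5c13ec188e87365ed44ca0f6ad4831482]
def certL0 : Lev := ⟨nat_lit 0, nat_lit 0xfffffff, (.node (nat_lit 14) (.node (nat_lit 7) (.node (nat_lit 3) (.node (nat_lit 1) (.leaf (nat_lit 0xdeb38bdab49ca307b9ac5a928398a418820)) (.node (nat_lit 2) (.leaf (nat_lit 0xb6e2fc69b45d553ba247864a62384c0a403)) (.leaf (nat_lit 0xb4b747374c82a69464ef31564b8c4188315)))) (.node (nat_lit 5) (.node (nat_lit 4) (.leaf (nat_lit 0xd59577ee548372bc1aa49c44e6212701461)) (.leaf (nat_lit 0xd56d444b679e5653449770a0cc052050ded))) (.node (nat_lit 6) (.leaf (nat_lit 0x6da68a48ec368b0711574ec430e40fc2eb1)) (.leaf (nat_lit 0xb4853b85d57a939c50c38e9672810c2436d))))) (.node (nat_lit 10) (.node (nat_lit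 8) (.leaf (nat_lit 0x96966a548776c53433382d921044777c1aa)) (.node (nat_lit 9) (.leaf (nat_lit 0xaee0ea35844592b31e2f168a01a838bce59)) (.leaf (nat_lit 0x626b8d3e2e994481ecc7c8417542545d88d)))) (.node (nat_lit 12) (.node (nat_lit 11) (.leaf (nat_lit 0x969ac22ad786cc21cc2ec812fa61752c507)) (.leaf (nat_lit 0xaad5a1a43ce9eb388b80222cb921b4b66e))) (.node (nat_lit 13) (.leaf (nat_lit 0xc2486d204c70e017ca205b554b4f672d6f9)) (.leaf (nat_lit 0xaee47667589d9c90ac0888cb7a3e0d128c4)))))) (.node (nat_lit 21) (.node (nat_lit 17) (.node (nat_lit 15) (.leaf (nat_lit 0x62a97cae0d79222382469e9d8aa7682d823)) (.node (nat_lit 16) (.leaf (nat_lit 0x6daa43c76f5e9050406650458a5e724e5cc)) (.leaf (nat_lit 0x7958ed992740660bd54384b34d2ec413711)))) (.node (nat_lit 19) (.node (nat_lit 18) (.leaf (nat_lit 0x548c366837cd81023f7413578ace2e424e5)) (.leaf (nat_lit 0xde46c0d6d8482513bf4d9b94b45cb424046))) (.node (nat_lit 20) (.leaf (nat_lit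 0x305e7aa8a304919a33575da04d89b89c5c9)) (.leaf (nat_lit 0x40f0c945200b5caa12cf9ed67d16b7864c2))))) (.node (nat_lit 24) (.node (nat_lit 22) (.leaf (nat_lit 0xcd5c13ec188e87365ed44ca0f6ad4831482)) (.node (nat_lit 23) (.leaf (nat_lit 0xcb8d42036180b436b2b68de4979d5844cab)) (.leaf (nat_lit 0x5918d04946169eec52a74ee68c96c188ef0)))) (.node (nat_lit 26) (.node (nat_lit 25) (.leaf (nat_lit 0x8b5002586f56c2b3e3542d6779432670989)) (.leaf (nat_lit 0xd28041cb77105b9662d581a3373d343aca8))) (.node (nat_lit 27) (.leaf (nat_lit 0x702e46e4411d4d1a1f7886a6cb264f5a905)) (.leaf (nat_lit 0x674da3aa18eef02244f19947c32762c968)))))))⟩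
def certC0 : LevCert := ⟨certL0,
    [(nat_lit 3, nat_lit 0), (nat_lit 21, nat_lit 1), (nat_lit 1, nat_lit 0), (nat_lit 17, nat_lit 1), (nat_lit 13, nat_lit 0), (nat_lit 26, nat_lit 1), (nat_lit 24, nat_lit 1), (nat_lit 10, nat_lit 0), (nat_lit 19, nat_lit 1), (nat_lit 18, nat_lit 0), (nat_lit 7, nat_lit 1), (nat_lit 27, nat_lit 0), (nat_lit 15, nat_lit 0), (nat_lit 20, nat_lit 1), (nat_lit 25, nat_lit 0), (nat_lit 5, nat_lit 1), (nat_lit 11, nat_lit 0), (nat_lit 16, nat_lit 1), (nat_lit 4, nat_lit 0), (nat_lit 23, nat_lit 1), (nat_lit 22, nat_lit 0), (nat_lit 8, nat_lit 1), (nat_lit 12, nat_lit 1), (nat_lit 2, nat_lit 0), (nat_lit 6, nat_lit 1), (nat_lit 9, nat_lit 1), (nat_lit 14, nat_lit 1)],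
    [[nat_lit 0, nat_lit 2, nat_lit 2, nat_lit 2, nat_lit 2, nat_lit 2, nat_lit 0, nat_lit 2, nat_lit 0, nat_lit 2, nat_lit 2], [nat_lit 2, nat_lit 4, nat_lit 4, nat_lit 4, nat_lit 4, nat_lit 2, nat_lit 4, nat_lit 4]],
    [nat_lit 0x11aeda3d630b0995612e9467a2a2b0dd8e0, nat_lit 0x8106a8864b696f571d3acbd14658d898b60]⟩
def certL1 : Lev := ⟨nat_lit 1, nat_lit 0xffffffe, (.node (nat_lit 14) (.node (nat_lit 7) (.node (nat_lit 4) (.node (nat_lit 2) (.leaf (nat_lit 0xdeb38bdab49ca307b9ac5a928398a418820)) (.node (nat_lit 3) (.leaf (nat_lit 0x15a295bb33deb037a9072dda43525580580)) (.leaf (nat_lit 0xcc37121d924d68bc1666bab4373d0d0d840)))) (.node (nat_lit 5) (.leaf (nat_lit 0x1d1f9badb83b04e9c8a6dc35649101ac540)) (.node (nat_lit 6) (.leaf (nat_lit 0x929ae8c0c345ae566a9899d7926c2f48aa0)) (.leaf (nat_lit 0xae26fbecb949a323b1041ba8bd06ca68a00))))) (.node (nat_lit 10) (.node (nat_lit 8) (.leaf (nat_lit 0x16e341b269ae1ed3b97ab5d0a0e4c594080))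 (.node (nat_lit 9) (.leaf (nat_lit 0xdaf346b8d5d32578a12f22a012e07311ec0)) (.leaf (nat_lit 0xb22891aa5b3ba178b67861026ae97913ca0)))) (.node (nat_lit 12) (.node (nat_lit 11) (.leaf (nat_lit 0xc296234e4e38f56a35ecb853b864b522220)) (.leaf (nat_lit 0x645382651bd3e957186d09657808ea9d960))) (.node (nat_lit 13) (.leaf (nat_lit 0x9cab156886a17237d921bbb0d61d6886c40)) (.leaf (nat_lit 0x7e873dc5822e3342242d740e859a57b2aa0)))))) (.node (nat_lit 21) (.node (nat_lit 17) (.node (nat_lit 15) (.leaf (nat_lit 0x8a047b430f5a69bc84b36dea6669c351240)) (.node (nat_lit 16) (.leaf (nat_lit 0xd8d57a492d2bad80b2a8164cf9c34759220)) (.leaf (nat_lit 0xb1e9ab9769cc221c286e4126d7caac588c0)))) (.node (nat_lit 19) (.node (nat_lit 18) (.leaf (nat_lit 0x26ecd5a0a64dc359b043951f98aa1a760e0)) (.leaf (nat_lit 0x2bd27bd6d3a0626d116a6b323c436e40a40))) (.node (nat_lit 20) (.leaf (nat_lit 0x11aeda3d630b0995612e9467a2a2b0dd8e0)) (.leaf (nat_lit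 0xb3c93962e1119bb54745ad13040d8bc9dc0))))) (.node (nat_lit 24) (.node (nat_lit 22) (.leaf (nat_lit 0xb0883db8335b5492e2467d3513dd1566600)) (.node (nat_lit 23) (.leaf (nat_lit 0x8106a8864b696f571d3acbd14658d898b60)) (.leaf (nat_lit 0x38e5a0aab971564a4d313344f642fbb6100)))) (.node (nat_lit 26) (.node (nat_lit 25) (.leaf (nat_lit 0x51b61111d6ab6e384ce9c64ba921947c560)) (.leaf (nat_lit 0x5b42aa0ab79a08c2bb50de07231df14db20))) (.node (nat_lit 27) (.leaf (nat_lit 0x106e8c9c6d8115373e8c34538b2cb2aef40)) (.leaf (nat_lit 0xd1689bcb061eb1ba5aad637691323138c0)))))))⟩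
def certC1 : LevCert := ⟨certL1,
    [(nat_lit 19, nat_lit 0), (nat_lit 22, nat_lit 1), (nat_lit 9, nat_lit 0), (nat_lit 3, nat_lit 1), (nat_lit 2, nat_lit 0), (nat_lit 6, nat_lit 1), (nat_lit 13, nat_lit 0), (nat_lit 20, nat_lit 0), (nat_lit 25, nat_lit 1), (nat_lit 27, nat_lit 0), (nat_lit 26, nat_lit 0), (nat_lit 5, nat_lit 1), (nat_lit 24, nat_lit 0), (nat_lit 23, nat_lit 0), (nat_lit 8, nat_lit 1), (nat_lit 16, nat_lit 0), (nat_lit 11, nat_lit 1), (nat_lit 12, nat_lit 1), (nat_lit 7, nat_lit 0), (nat_lit 18, nat_lit 1), (nat_lit 14, nat_lit 0), (nat_lit 4, nat_lit 1), (nat_lit 17, nat_lit 1), (nat_lit 21, nat_lit 0), (nat_lit 15, nat_lit 1), (nat_lit 10, nat_lit 0)],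
    [[nat_lit 0, nat_lit 2, nat_lit 2, nat_lit 2, nat_lit 0, nat_lit 2, nat_lit 2, nat_lit 2], [nat_lit 2, nat_lit 4, nat_lit 4, nat_lit 4, nat_lit 2, nat_lit 2, nat_lit 2, nat_lit 2]],
    [nat_lit 0x6d258526ec8bb6830a6359de4ada05d6420, nat_lit 0x2898bb28d940c93aea12c24f17ddbb75020]⟩
def certL2 : Lev := ⟨nat_lit 2, nat_lit 0x614500c, (.node (nat_lit 18) (.node (nat_lit 12) (.node (nat_lit 3) (.leaf (nat_lit 0xdeb38bdab49ca307b9ac5a928398a418820)) (.leaf (nat_lit 0x8646b49ed2268b1bd10ec3ebb32a6d13020))) (.node (nat_lit 14) (.leaf (nat_lit 0x44b4b7d52e2d21b53082c1aedb1e33c8c20)) (.leaf (nat_lit 0x6d258526ec8bb6830a6359de4ada05d6420)))) (.node (nat_lit 25) (.node (nat_lit 20) (.leaf (nat_lit 0x9b1d83bd43d89a4b663a5d4c5ba510a4820)) (.leaf (nat_lit 0x23a8b35de28310d38cb9c59534d77196820))) (.node (nat_lit 26) (.leaf (nat_lit 0x88c58a98fa6e6654cb745ded053c8863820)) (.leaf (nat_lit 0x2898bb28d940c93aea12c24f17ddbb75020)))))⟩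
def certC2 : LevCert := ⟨certL2,
    [(nat_lit 14, nat_lit 0), (nat_lit 26, nat_lit 1), (nat_lit 18, nat_lit 0), (nat_lit 3, nat_lit 1), (nat_lit 25, nat_lit 0), (nat_lit 12, nat_lit 1), (nat_lit 20, nat_lit 1)],
    [],
    []⟩
def cert : List LevCert := [certC0, certC1, certC2]
def certL : List Lev := [certL0, certL1, certL2]
/-- the numbering of the points -/
abbrev E : Enc (Fin 28) 28 5 32 := finEnc 28 5 32 rfl (by decide)
theorem ok : modelOK F9 3 28 5 32 VT R true gs cert 6048 = true := by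
  decide +kernel

/-- the permutation group -/
abbrev K : Subgroup (Equiv.Perm (Fin 28)) := E.grp gens

theorem model {F : Type*} [Field F] [Fintype F] (hF : Fintype.card F = 9) (ι : TF F9 →+* F) :
    ∃ φ, IsModel E (suMu 3 F 3) (ptv ι (Equiv.refl _) E VT) true (Subgroup.center _) gens certL φ :=
  model_PSU ι E (r := 3) hF rfl (m := 20) (by decide) ok (by decide +kernel) (by decide +kernel)

theorem equiv {F : Type*} [Field F] [Fintype F] (hF : Fintype.card F = 9) : Nonempty (PSU 3 F 3 ≃* K) :=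
  let ⟨ι, _⟩ := exists_hom F9 hF; let ⟨_, h⟩ := model hF ι; h.equiv_quot

theorem chain : E.IsChain certL K := let ⟨_, h⟩ := model (TF.card F9) (RingHom.id _); h.chain

theorem card : Nat.card K = 6048 := chain.card.trans (modelOK_card ok)

def c1a : Cls := ⟨nat_lit 0xdeb38bdab49ca307b9ac5a928398a418820, 6048, [nat_lit 0xfffffff, nat_lit 0xffffffe, nat_lit 0x614500c]⟩
def c2a : Cls := ⟨nat_lit 0x1d617c334544979519b68bc933ba89d8440, 96, [nat_lit 0x42081, nat_lit 0xffbdf7e, nat_lit 4]⟩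
def c3a : Cls := ⟨nat_lit 0x11c98b30d5915d1d43370247b7d26d52161, 108, [nat_lit 0xeffffff, nat_lit 2, nat_lit 0x2044004]⟩
def c3b : Cls := ⟨nat_lit 0xa2887c69882896eaa62f6da1bbe46698640, 9, [nat_lit 1, nat_lit 0x1862886, nat_lit 4]⟩
def c4a : Cls := ⟨nat_lit 0x6d258526ec8bb6830a6359de4ada05d6420, 96, [nat_lit 0x1000803, nat_lit 0x1000802, nat_lit 0x614500c]⟩
def c4b : Cls := ⟨nat_lit 0xb1e9ab9769cc221c286e4126d7caac588c0, 96, [nat_lit 0x820005, nat_lit 0xf7dfffa, nat_lit 4]⟩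
def c4c : Cls := ⟨nat_lit 0x30e4b2c49a4b9f568ad4c437744cea66401, 16, [nat_lit 0x1000803, nat_lit 2, nat_lit 0x2044004]⟩
def c6a : Cls := ⟨nat_lit 0x95e187e92a1232d611c701a93b0f71a9561, 12, [nat_lit 0x803, nat_lit 2, nat_lit 0x2044004]⟩
def c7a : Cls := ⟨nat_lit 0x4aa643c50590f6f75f46b6702642ab68414, 7, [nat_lit 0x300127, nat_lit 2, nat_lit 4]⟩
def c7b : Cls := ⟨nat_lit 0x8b54972ca0ccec683c6726b75bb29892041, 7, [nat_lit 0x300127, nat_lit 2, nat_lit 4]⟩
def c8a : Cls := ⟨nat_lit 0xbb878693623eaa6851595ccb68a1e993001, 8, [nat_lit 3, nat_lit 2, nat_lit 0x2044004]⟩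
def c8b : Cls := ⟨nat_lit 0xac998da22e50cef2eae25b4869c136cd001, 8, [nat_lit 3, nat_lit 2, nat_lit 0x2044004]⟩
def c12a : Cls := ⟨nat_lit 0x446c091f3b2a603bbc8d5baba1299499b01, 12, [nat_lit 0x1000003, nat_lit 2, nat_lit 0x2044004]⟩
def c12b : Cls := ⟨nat_lit 0x72918351e7c925319455059914e9bbbc161, 12, [nat_lit 0x803, nat_lit 2, nat_lit 0x2044004]⟩
def cl : List Cls := [c1a, c2a, c3a, c3b, c4a, c4b, c4c, c6a, c7a, c7b, c8a, c8b, c12a, c12b]
theorem cl_ok : allL cl (clsOK 5 32 28 certL 0) = true := by decide +kernel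
theorem cl_pairs : pairsOK 5 32 28 certL 0 cl = true := by decide +kernel
/-- the conjugacy classes -/
theorem classes : E.ClassList K cl :=
  chain.classList (E.fixes_zero K) (allL_iff.1 cl_ok) cl_pairs card (by decide +kernel)

end Cfsg.Agent.H56.U33
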