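/-
PSL(2,11) on 12 points (generated by tools_h56/model.py).
-/
import Cfsg.Agent.H56.ClassModel
import Cfsg.Agent.H56.Fields
import Cfsg.Agent.H56.IsoK

set_option autoImplicit false

namespace Cfsg.Agent.H56.L211

open H14

def VT : ℕ := nat_lit 0x71912151311041a161118101
def R : BT := (.node (nat_lit 81) (.node (nat_lit 33) (.node (nat_lit 16) (.leaf (nat_lit 0)) (.node (nat_lit 17) (.leaf (nat_lit 6)) (.leaf (nat_lit 2)))) (.node (nat_lit 49) (.leaf (nat_lit 9)) (.node (nat_lit 65) (.leaf (nat_lit 7)) (.leaf (nat_lit 5))))) (.node (nat_lit 129) (.node (nat_lit 97) (.leaf (nat_lit 8)) (.node (nat_lit 113) (.leaf (nat_lit 3)) (.leaf (nat_lit 11)))) (.node (nat_lit 145) (.leaf (nat_lit 1)) (.node (nat_lit 161) (.leaf (nat_lit 10)) (.leaf (nat_lit 4))))))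
def gs : List (ℕ × ℕ) := [(nat_lit 0x6187, nat_lit 0x5097ba386421), (nat_lit 0x9a94, nat_lit 0xb460a2897531)]
def gens : List ℕ := [nat_lit 0x5097ba386421, nat_lit 0xb460a2897531]
def certL0 : Lev := ⟨nat_lit 0, nat_lit 0xfff, (.node (nat_lit 6) (.node (nat_lit 3) (.node (nat_lit 1) (.leaf (nat_lit 0xba9876543210)) (.node (nat_lit 2) (.leaf (nat_lit 0x6b1427593a08)) (.leaf (nat_lit 0x736b812a4095)))) (.node (nat_lit 4) (.leaf (nat_lit 0x629531ab0784)) (.node (nat_lit 5) (.leaf (nat_lit 0x816ab4702953)) (.leaf (nat_lit 0xb9214506a873))))) (.node (nat_lit 9) (.node (nat_lit 7) (.leaf (nat_lit 0x319b5067a842)) (.node (nat_lit 8) (.leaf (nat_lit 0x58a10479b362)) (.leaf (nat_lit 0xb460a2897531)))) (.node (nat_lit 10) (.leaf (nat_lit 0x370218b956a4)) (.node (nat_lit 11) (.leaf (nat_lit 0x5097ba386421)) (.leaf (nat_lit 0x324b9a15687))))))⟩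
def certC0 : LevCert := ⟨certL0,
    [(nat_lit 10, nat_lit 0), (nat_lit 8, nat_lit 1), (nat_lit 6, nat_lit 0), (nat_lit 7, nat_lit 1), (nat_lit 4, nat_lit 0), (nat_lit 5, nat_lit 1), (nat_lit 3, nat_lit 0), (nat_lit 9, nat_lit 1), (nat_lit 2, nat_lit 0), (nat_lit 11, nat_lit 0), (nat_lit 1, nat_lit 1)],
    [[nat_lit 2, nat_lit 0, nat_lit 0, nat_lit 0, nat_lit 2], [nat_lit 4, nat_lit 4, nat_lit 4, nat_lit 2, nat_lit 4]],
    [nat_lit 0x2b395a867410, nat_lit 0x136a7295b480]⟩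
def certL1 : Lev := ⟨nat_lit 1, nat_lit 0xffe, (.node (nat_lit 6) (.node (nat_lit 3) (.node (nat_lit 2) (.leaf (nat_lit 0xba9876543210)) (.leaf (nat_lit 0x32a9b5746180))) (.node (nat_lit 4) (.leaf (nat_lit 0x8b23746915a0)) (.node (nat_lit 5) (.leaf (nat_lit 0x259764b1a380)) (.leaf (nat_lit 0x2843b7159a60))))) (.node (nat_lit 9) (.node (nat_lit 7) (.leaf (nat_lit 0x547ba1639280)) (.node (nat_lit 8) (.leaf (nat_lit 0xa2941837b560)) (.leaf (nat_lit 0x873195ba4260)))) (.node (nat_lit 10) (.leaf (nat_lit 0x58126b3479a0)) (.node (nat_lit 11) (.leaf (nat_lit 0x41b693a27580)) (.leaf (nat_lit 0x136a7295b480))))))⟩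
def certC1 : LevCert := ⟨certL1,
    [(nat_lit 11, nat_lit 1), (nat_lit 10, nat_lit 0), (nat_lit 3, nat_lit 1), (nat_lit 6, nat_lit 0), (nat_lit 8, nat_lit 1), (nat_lit 9, nat_lit 0), (nat_lit 4, nat_lit 0), (nat_lit 5, nat_lit 0), (nat_lit 2, nat_lit 0), (nat_lit 7, nat_lit 0)],
    [[nat_lit 2, nat_lit 0, nat_lit 2, nat_lit 0, nat_lit 0, nat_lit 0, nat_lit 2, nat_lit 2, nat_lit 2], [nat_lit 4, nat_lit 4, nat_lit 4, nat_lit 4, nat_lit 4, nat_lit 2]],
    [nat_lit 0xa68534729b10, nat_lit 0x2b395a867410]⟩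
def certL2 : Lev := ⟨nat_lit 2, nat_lit 0xc54, (.node (nat_lit 6) (.node (nat_lit 4) (.leaf (nat_lit 0xba9876543210)) (.leaf (nat_lit 0xa68534729b10))) (.node (nat_lit 10) (.leaf (nat_lit 0x6457923b8a10)) (.node (nat_lit 11) (.leaf (nat_lit 0x42738b9a5610)) (.leaf (nat_lit 0x2b395a867410)))))⟩
def certC2 : LevCert := ⟨certL2,
    [(nat_lit 4, nat_lit 0), (nat_lit 11, nat_lit 1), (nat_lit 6, nat_lit 0), (nat_lit 10, nat_lit 1)],
    [],
    []⟩
def cert : List LevCert := [certC0, certC1, certC2]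
def certL : List Lev := [certL0, certL1, certL2]
/-- the numbering of the points -/
abbrev E : Enc (Fin 12) 12 4 16 := finEnc 12 4 16 rfl (by decide)
theorem ok : modelOK F11 2 12 4 16 VT R true gs cert 660 = true := by
  decide +kernel

/-- the permutation group -/
abbrev K : Subgroup (Equiv.Perm (Fin 12)) := E.grp gens

theorem model {F : Type*} [Field F] [Fintype F] (hF : Fintype.card F = 11) (ι : TF F11 →+* F) :
    ∃ φ, IsModel E (slToMat 2 F) (ptv ι (Equiv.refl _) E VT) true (Subgroup.center _) gens certL φ :=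
  model_PSL ι E hF (m := 10) (by decide) ok (by decide +kernel) (by decide +kernel)

theorem equiv {F : Type*} [Field F] [Fintype F] (hF : Fintype.card F = 11) : Nonempty (Matrix.ProjectiveSpecialLinearGroup (Fin 2) F ≃* K) :=
  let ⟨ι, _⟩ := exists_hom F11 hF; let ⟨_, h⟩ := model hF ι; h.equiv_quot

theorem chain : E.IsChain certL K := let ⟨_, h⟩ := model (TF.card F11) (RingHom.id _); h.chain

theorem card : Nat.card K = 660 := chain.card.trans (modelOK_card ok)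

def c1a : Cls := ⟨nat_lit 0xba9876543210, 660, [nat_lit 0xfff, nat_lit 0xffe, nat_lit 0xc54]⟩
def c2a : Cls := ⟨nat_lit 0x7546b8a92301, 12, [nat_lit 0xfff, nat_lit 2, nat_lit 4]⟩
def c3a : Cls := ⟨nat_lit 0xa83b94657021, 6, [nat_lit 655, nat_lit 2, nat_lit 4]⟩
def c5a : Cls := ⟨nat_lit 0x2b395a867410, 5, [nat_lit 1, nat_lit 2, nat_lit 0xc54]⟩
def c5b : Cls := ⟨nat_lit 0x6457923b8a10, 5, [nat_lit 1, nat_lit 2, nat_lit 0xc54]⟩
def c6a : Cls := ⟨nat_lit 0x348259ab7106, 6, [nat_lit 839, nat_lit 2, nat_lit 4]⟩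
def c11a : Cls := ⟨nat_lit 0x34658ab71920, 11, [nat_lit 1, nat_lit 0xffe, nat_lit 4]⟩
def c11b : Cls := ⟨nat_lit 0x5097ba386421, 11, [nat_lit 0xdff, nat_lit 2, nat_lit 4]⟩
def cl : List Cls := [c1a, c2a, c3a, c5a, c5b, c6a, c11a, c11b]
theorem cl_ok : allL cl (clsOK 4 16 12 certL 0) = true := by decide +kernel
theorem cl_pairs : pairsOK 4 16 12 certL 0 cl = true := by decide +kernel
/-- the conjugacy classes -/
theorem classes : E.ClassList K cl :=
  chain.classList (E.fixes_zero K) (allL_iff.1 cl_ok) cl_pairs card (by decide +kernel)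

end Cfsg.Agent.H56.L211
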