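/-
PSL(2,13) on 14 points (generated by tools_h56/model.py).
-/
import Cfsg.Agent.H56.ClassModel
import Cfsg.Agent.H56.Fields
import Cfsg.Agent.H56.IsoK

set_option autoImplicit false

namespace Cfsg.Agent.H56.L213

open H14

def VT : ℕ := nat_lit 0x1121b1315191c17181411061a101
def R : BT := (.node (nat_lit 97) (.node (nat_lit 33) (.node (nat_lit 16) (.leaf (nat_lit 0)) (.node (nat_lit 17) (.leaf (nat_lit 3)) (.leaf (nat_lit 13)))) (.node (nat_lit 65) (.node (nat_lit 49) (.leaf (nat_lit 12)) (.leaf (nat_lit 10))) (.node (nat_lit 81) (.leaf (nat_lit 4)) (.leaf (nat_lit 9))))) (.node (nat_lit 145) (.node (nat_lit 113) (.leaf (nat_lit 2)) (.node (nat_lit 129) (.leaf (nat_lit 6)) (.leaf (nat_lit 5)))) (.node (nat_lit 177) (.node (nat_lit 161) (.leaf (nat_lit 8)) (.leaf (nat_lit 1))) (.node (nat_lit 193) (.leaf (nat_lit 11)) (.leaf (nat_lit 7))))))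
def gs : List (ℕ × ℕ) := [(nat_lit 0x3b65, nat_lit 0x2dac0b94876531), (nat_lit 0xc289, nat_lit 0x109bdca3875642)]
def gens : List ℕ := [nat_lit 0x2dac0b94876531, nat_lit 0x109bdca3875642]
def certL0 : Lev := ⟨nat_lit 0, nat_lit 0x3fff, (.node (nat_lit 7) (.node (nat_lit 3) (.node (nat_lit 1) (.leaf (nat_lit 0xdcba9876543210)) (.node (nat_lit 2) (.leaf (nat_lit 0x463d8527c1a90b)) (.leaf (nat_lit 0xc324796bd1a058)))) (.node (nat_lit 5) (.node (nat_lit 4) (.leaf (nat_lit 0x87693425d10abc)) (.leaf (nat_lit 0x85d23c19a07b46))) (.node (nat_lit 6) (.leaf (nat_lit 0x34926d1a0b5c87)) (.leaf (nat_lit 0xb8256d30c19a74))))) (.node (nat_lit 10) (.node (nat_lit 8) (.leaf (nat_lit 0x52cd1a07b94863)) (.node (nat_lit 9) (.leaf (nat_lit 0x42d910b5ca8376)) (.leaf (nat_lit 0x2dac0b94876531)))) (.node (nat_lit 12) (.node (nat_lit 11) (.leaf (nat_lit 0x61b029d7ca3854)) (.leaf (nat_lit 0x310a2dc6b98475))) (.node (nat_lit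 13) (.leaf (nat_lit 0x109bdca3875642)) (.leaf (nat_lit 0xb8346da52c719))))))⟩
def certC0 : LevCert := ⟨certL0,
    [(nat_lit 9, nat_lit 0), (nat_lit 12, nat_lit 1), (nat_lit 7, nat_lit 0), (nat_lit 11, nat_lit 1), (nat_lit 10, nat_lit 0), (nat_lit 8, nat_lit 1), (nat_lit 4, nat_lit 0), (nat_lit 5, nat_lit 0), (nat_lit 6, nat_lit 0), (nat_lit 1, nat_lit 1), (nat_lit 2, nat_lit 0), (nat_lit 3, nat_lit 1), (nat_lit 13, nat_lit 1)],
    [[nat_lit 0, nat_lit 0, nat_lit 0, nat_lit 2, nat_lit 0], [nat_lit 2, nat_lit 2, nat_lit 2, nat_lit 2, nat_lit 4, nat_lit 2, nat_lit 4, nat_lit 2, nat_lit 2, nat_lit 4, nat_lit 2]],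
    [nat_lit 0x94d6b381527ca0, nat_lit 0x4918756d3cb2a0]⟩
def certL1 : Lev := ⟨nat_lit 1, nat_lit 0x3ffe, (.node (nat_lit 7) (.node (nat_lit 4) (.node (nat_lit 2) (.leaf (nat_lit 0xdcba9876543210)) (.node (nat_lit 3) (.leaf (nat_lit 0x5c27843d69a1b0)) (.leaf (nat_lit 0xc7a563d4b91280)))) (.node (nat_lit 5) (.leaf (nat_lit 0xc5d3a6724189b0)) (.node (nat_lit 6) (.leaf (nat_lit 0x9683db4c17a250)) (.leaf (nat_lit 0x94d6b381527ca0))))) (.node (nat_lit 10) (.node (nat_lit 8) (.leaf (nat_lit 0x2ba3851974dc60)) (.node (nat_lit 9) (.leaf (nat_lit 0x69c4a138b2d750)) (.leaf (nat_lit 0x7c4d1b5a326980)))) (.node (nat_lit 12) (.node (nat_lit 11) (.leaf (nat_lit 0xb291d73a5c8460)) (.leaf (nat_lit 0x4918756d3cb2a0))) (.node (nat_lit 13) (.leaf (nat_lit 0x218b53a76c49d0)) (.leaf (nat_lit 0x127a46b8395cd0))))))⟩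
def certC1 : LevCert := ⟨certL1,
    [(nat_lit 6, nat_lit 0), (nat_lit 11, nat_lit 1), (nat_lit 10, nat_lit 0), (nat_lit 7, nat_lit 1), (nat_lit 9, nat_lit 0), (nat_lit 3, nat_lit 1), (nat_lit 13, nat_lit 0), (nat_lit 12, nat_lit 1), (nat_lit 8, nat_lit 0), (nat_lit 5, nat_lit 1), (nat_lit 2, nat_lit 0), (nat_lit 4, nat_lit 1)],
    [[nat_lit 2, nat_lit 0, nat_lit 2, nat_lit 2, nat_lit 2, nat_lit 2, nat_lit 0, nat_lit 2], [nat_lit 4, nat_lit 4, nat_lit 2, nat_lit 2, nat_lit 4, nat_lit 2, nat_lit 2, nat_lit 4, nat_lit 2, nat_lit 4, nat_lit 2]],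
    [nat_lit 0x934b8d62ca5710, nat_lit 0x39265cb4d78a10]⟩
def certL2 : Lev := ⟨nat_lit 2, nat_lit 0xcd4, (.node (nat_lit 7) (.node (nat_lit 4) (.leaf (nat_lit 0xdcba9876543210)) (.node (nat_lit 6) (.leaf (nat_lit 0xcd6735ab829410)) (.leaf (nat_lit 0x934b8d62ca5710)))) (.node (nat_lit 10) (.leaf (nat_lit 0x85a4d9273bc610)) (.node (nat_lit 11) (.leaf (nat_lit 0x5872c34a96db10)) (.leaf (nat_lit 0x39265cb4d78a10)))))⟩
def certC2 : LevCert := ⟨certL2,
    [(nat_lit 6, nat_lit 0), (nat_lit 11, nat_lit 1), (nat_lit 7, nat_lit 0), (nat_lit 10, nat_lit 1), (nat_lit 4, nat_lit 1)],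
    [],
    []⟩
def cert : List LevCert := [certC0, certC1, certC2]
def certL : List Lev := [certL0, certL1, certL2]
/-- the numbering of the points -/
abbrev E : Enc (Fin 14) 14 4 16 := finEnc 14 4 16 rfl (by decide)
theorem ok : modelOK F13 2 14 4 16 VT R true gs cert 1092 = true := by
  decide +kernel

/-- the permutation group -/
abbrev K : Subgroup (Equiv.Perm (Fin 14)) := E.grp gens

theorem model {F : Type*} [Field F] [Fintype F] (hF : Fintype.card F = 13) (ι : TF F13 →+* F) :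
    ∃ φ, IsModel E (slToMat 2 F) (ptv ι (Equiv.refl _) E VT) true (Subgroup.center _) gens certL φ :=
  model_PSL ι E hF (m := 6) (by decide) ok (by decide +kernel) (by decide +kernel)

theorem equiv {F : Type*} [Field F] [Fintype F] (hF : Fintype.card F = 13) : Nonempty (Matrix.ProjectiveSpecialLinearGroup (Fin 2) F ≃* K) :=
  let ⟨ι, _⟩ := exists_hom F13 hF; let ⟨_, h⟩ := model hF ι; h.equiv_quot

theorem chain : E.IsChain certL K := let ⟨_, h⟩ := model (TF.card F13) (RingHom.id _); h.chain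

theorem card : Nat.card K = 1092 := chain.card.trans (modelOK_card ok)

def c1a : Cls := ⟨nat_lit 0xdcba9876543210, 1092, [nat_lit 0x3fff, nat_lit 0x3ffe, nat_lit 0xcd4]⟩
def c2a : Cls := ⟨nat_lit 0x58ab3c67d49201, 12, [nat_lit 0x3123, nat_lit 2, nat_lit 20]⟩
def c3a : Cls := ⟨nat_lit 0x53ba86c94d7021, 6, [nat_lit 0x2037, nat_lit 2, nat_lit 4]⟩
def c6a : Cls := ⟨nat_lit 0x5872c34a96db10, 6, [nat_lit 1, nat_lit 2, nat_lit 0xcd4]⟩
def c7a : Cls := ⟨nat_lit 0x359c74ab608d21, 7, [nat_lit 0x211f, nat_lit 2, nat_lit 4]⟩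
def c7b : Cls := ⟨nat_lit 0x87db65903a4c21, 7, [nat_lit 0x12c7, nat_lit 2, nat_lit 4]⟩
def c7c : Cls := ⟨nat_lit 0x46c037da895b21, 7, [nat_lit 0x1c47, nat_lit 2, nat_lit 4]⟩
def c13a : Cls := ⟨nat_lit 0x780943bd5c6a21, 13, [nat_lit 0x3fdf, nat_lit 2, nat_lit 4]⟩
def c13b : Cls := ⟨nat_lit 0x9d3864ba71c520, 13, [nat_lit 1, nat_lit 0x3ffe, nat_lit 4]⟩
def cl : List Cls := [c1a, c2a, c3a, c6a, c7a, c7b, c7c, c13a, c13b]
theorem cl_ok : allL cl (clsOK 4 16 14 certL 0) = true := by decide +kernel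
theorem cl_pairs : pairsOK 4 16 14 certL 0 cl = true := by decide +kernel
/-- the conjugacy classes -/
theorem classes : E.ClassList K cl :=
  chain.classList (E.fixes_zero K) (allL_iff.1 cl_ok) cl_pairs card (by decide +kernel)

end Cfsg.Agent.H56.L213
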