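/-
GL(4,2) on 15 points and its isomorphism with A8 (generated by tools_h56/model.py).
-/
import Cfsg.Agent.H56.ClassModel
import Cfsg.Agent.H56.Fields
import Cfsg.Agent.H56.ClsTools
import Cfsg.Agent.H56.Mod.Alt

set_option autoImplicit false
set_option maxRecDepth 100000
set_option Elab.async false

namespace Cfsg.Agent.H56.GL42

open H14

def VT : ℕ := nat_lit 0x6d582baf439e1c7
def R : BT := (.node (nat_lit 8) (.node (nat_lit 4) (.node (nat_lit 2) (.leaf (nat_lit 2)) (.node (nat_lit 3) (.leaf (nat_lit 10)) (.leaf (nat_lit 5)))) (.node (nat_lit 6) (.node (nat_lit 5) (.leaf (nat_lit 6)) (.leaf (nat_lit 12))) (.node (nat_lit 7) (.leaf (nat_lit 14)) (.leaf (nat_lit 0))))) (.node (nat_lit 12) (.node (nat_lit 10) (.node (nat_lit 9) (.leaf (nat_lit 11)) (.leaf (nat_lit 4))) (.node (nat_lit 11) (.leaf (nat_lit 8)) (.leaf (nat_lit 9)))) (.node (nat_lit 14) (.node (nat_lit 13) (.leaf (nat_lit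 1)) (.leaf (nat_lit 13))) (.node (nat_lit 15) (.leaf (nat_lit 3)) (.leaf (nat_lit 7))))))
def gs : List (ℕ × ℕ) := [(nat_lit 0xace5, nat_lit 0xdbe38c6a0975241), (nat_lit 0xcf1b, nat_lit 0x4e9dc7b51a86023)]
def gens : List ℕ := [nat_lit 0xdbe38c6a0975241, nat_lit 0x4e9dc7b51a86023]
def certL0 : Lev := ⟨nat_lit 0, nat_lit 0x7fff, (.node (nat_lit 7) (.node (nat_lit 3) (.node (nat_lit 1) (.leaf (nat_lit 0xedcba9876543210)) (.node (nat_lit 2) (.leaf (nat_lit 0x847e95da2cb1306)) (.leaf (nat_lit 0x4e9dc7b51a86023)))) (.node (nat_lit 5) (.node (nat_lit 4) (.leaf (nat_lit 0x7dcbea394860125)) (.leaf (nat_lit 0xabe3d85c7601429))) (.node (nat_lit 6) (.leaf (nat_lit 0x83d5b69ea01472c)) (.leaf (nat_lit 0xdbe38c6a0975241))))) (.node (nat_lit 11) (.node (nat_lit 9) (.node (nat_lit 8) (.leaf (nat_lit 0x593c1b407d6e28a)) (.leaf (nat_lit 0xb3d56e081ca9274))) (.node (nat_lit 10) (.leaf (nat_lit 0x65b930cd8147a2e))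 (.leaf (nat_lit 0x35b90d164e8c2a7)))) (.node (nat_lit 13) (.node (nat_lit 12) (.leaf (nat_lit 0xdb703c4e5a98162)) (.leaf (nat_lit 0xab07382e1c6d954))) (.node (nat_lit 14) (.leaf (nat_lit 0xb0d847532cea196)) (.leaf (nat_lit 0xa8bec362d57941))))))⟩
def certC0 : LevCert := ⟨certL0,
    [(nat_lit 6, nat_lit 0), (nat_lit 2, nat_lit 1), (nat_lit 8, nat_lit 0), (nat_lit 3, nat_lit 1), (nat_lit 1, nat_lit 1), (nat_lit 10, nat_lit 0), (nat_lit 4, nat_lit 1), (nat_lit 11, nat_lit 0), (nat_lit 7, nat_lit 0), (nat_lit 5, nat_lit 1), (nat_lit 14, nat_lit 1), (nat_lit 13, nat_lit 0), (nat_lit 9, nat_lit 1), (nat_lit 12, nat_lit 0)],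
    [[nat_lit 0, nat_lit 0, nat_lit 2, nat_lit 2, nat_lit 0, nat_lit 0, nat_lit 2, nat_lit 0, nat_lit 0, nat_lit 0, nat_lit 2], [nat_lit 2, nat_lit 4, nat_lit 4]],
    [nat_lit 0xd4b2763eac91850, nat_lit 0x67adc9b82e34510]⟩
def certL1 : Lev := ⟨nat_lit 1, nat_lit 0x7ffe, (.node (nat_lit 8) (.node (nat_lit 4) (.node (nat_lit 2) (.leaf (nat_lit 0xedcba9876543210)) (.node (nat_lit 3) (.leaf (nat_lit 0x9683d754e2ac1b0)) (.leaf (nat_lit 0xd4b2763eac91850)))) (.node (nat_lit 6) (.node (nat_lit 5) (.leaf (nat_lit 0xae74b6238d19c50)) (.leaf (nat_lit 0x3ea6cb2591d8470))) (.node (nat_lit 7) (.leaf (nat_lit 0xe4d6873519ca2b0)) (.leaf (nat_lit 0x7de92a813456bc0))))) (.node (nat_lit 11) (.node (nat_lit 9) (.leaf (nat_lit 0x4928ea1d7b653c0)) (.node (nat_lit 10) (.leaf (nat_lit 0x4c6251ae8d7b390)) (.leaf (nat_lit 0xd59b13672eac840)))) (.node (nat_lit 13) (.node (nat_lit 12) (.leaf (nat_lit 0x6a314ec9d87b520))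 (.leaf (nat_lit 0xa7159db643e2c80))) (.node (nat_lit 14) (.leaf (nat_lit 0xe14c389ab7652d0)) (.leaf (nat_lit 0x16c2ab5e348d970))))))⟩
def certC1 : LevCert := ⟨certL1,
    [(nat_lit 3, nat_lit 0), (nat_lit 8, nat_lit 0), (nat_lit 4, nat_lit 1), (nat_lit 2, nat_lit 0), (nat_lit 7, nat_lit 1), (nat_lit 13, nat_lit 0), (nat_lit 11, nat_lit 0), (nat_lit 6, nat_lit 1), (nat_lit 10, nat_lit 0), (nat_lit 14, nat_lit 0), (nat_lit 12, nat_lit 0), (nat_lit 9, nat_lit 0), (nat_lit 5, nat_lit 1)],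
    [[nat_lit 0, nat_lit 0, nat_lit 2, nat_lit 0, nat_lit 2, nat_lit 0, nat_lit 0, nat_lit 2], [nat_lit 2, nat_lit 2, nat_lit 4, nat_lit 4, nat_lit 2, nat_lit 2, nat_lit 2, nat_lit 4, nat_lit 2, nat_lit 2, nat_lit 4, nat_lit 4, nat_lit 4]],
    [nat_lit 0x6723e9b4acd8510, nat_lit 0xb53d49682eac710]⟩
def certL2 : Lev := ⟨nat_lit 2, nat_lit 0x7dfc, (.node (nat_lit 8) (.node (nat_lit 5) (.node (nat_lit 3) (.leaf (nat_lit 0xedcba9876543210)) (.node (nat_lit 4) (.leaf (nat_lit 0x3c87d9ab56e2410)) (.leaf (nat_lit 0xc3d589467b2ea10)))) (.node (nat_lit 6) (.leaf (nat_lit 0xa458693de27bc10)) (.node (nat_lit 7) (.leaf (nat_lit 0xb53d49682eac710)) (.leaf (nat_lit 0x5b3e49728dac610))))) (.node (nat_lit 12) (.node (nat_lit 10) (.leaf (nat_lit 0xdec5a9267b43810)) (.node (nat_lit 11) (.leaf (nat_lit 0x4ae629c5b78d310)) (.leaf (nat_lit 0x5b42397ed8ca610)))) (.node (nat_lit 13) (.leaf (nat_lit 0x6723e9b4acd8510))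 (.node (nat_lit 14) (.leaf (nat_lit 0x82b479e3ca65d10)) (.leaf (nat_lit 0x287cb9da4356e10))))))⟩
def certC2 : LevCert := ⟨certL2,
    [(nat_lit 12, nat_lit 0), (nat_lit 6, nat_lit 1), (nat_lit 5, nat_lit 0), (nat_lit 3, nat_lit 1), (nat_lit 14, nat_lit 0), (nat_lit 8, nat_lit 1), (nat_lit 13, nat_lit 1), (nat_lit 11, nat_lit 0), (nat_lit 10, nat_lit 0), (nat_lit 7, nat_lit 1), (nat_lit 4, nat_lit 0)],
    [[nat_lit 2, nat_lit 0, nat_lit 2, nat_lit 2, nat_lit 0, nat_lit 0, nat_lit 2, nat_lit 0, nat_lit 0, nat_lit 0], [nat_lit 2, nat_lit 2, nat_lit 4, nat_lit 4, nat_lit 2, nat_lit 2, nat_lit 4, nat_lit 2, nat_lit 2], [nat_lit 4, nat_lit 4, nat_lit 6, nat_lit 4, nat_lit 4, nat_lit 6, nat_lit 4, nat_lit 6, nat_lit 6, nat_lit 6, nat_lit 4, nat_lit 4, nat_lit 4, nat_lit 6, nat_lit 4, nat_lit 4]],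
    [nat_lit 0xed3549867bac210, nat_lit 0xed645983cab7210, nat_lit 0xed463985b7ca210]⟩
def certL3 : Lev := ⟨nat_lit 3, nat_lit 0x1cf8, (.node (nat_lit 7) (.node (nat_lit 5) (.node (nat_lit 4) (.leaf (nat_lit 0xedcba9876543210)) (.leaf (nat_lit 0xeda7c98b5634210))) (.node (nat_lit 6) (.leaf (nat_lit 0xedbc798a4365210)) (.leaf (nat_lit 0xed7ab98c3456210)))) (.node (nat_lit 11) (.node (nat_lit 10) (.leaf (nat_lit 0xed645983cab7210)) (.leaf (nat_lit 0xed463985b7ca210))) (.node (nat_lit 12) (.leaf (nat_lit 0xed536984ac7b210)) (.leaf (nat_lit 0xed3549867bac210)))))⟩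
def certC3 : LevCert := ⟨certL3,
    [(nat_lit 12, nat_lit 0), (nat_lit 7, nat_lit 1), (nat_lit 10, nat_lit 2), (nat_lit 6, nat_lit 1), (nat_lit 4, nat_lit 2), (nat_lit 5, nat_lit 2), (nat_lit 11, nat_lit 2)],
    [],
    []⟩
def cert : List LevCert := [certC0, certC1, certC2, certC3]
def certL : List Lev := [certL0, certL1, certL2, certL3]
/-- the numbering of the points -/
abbrev E : Enc (Fin 15) 15 4 16 := finEnc 15 4 16 rfl (by decide)
theorem ok : modelOK F2 4 15 4 16 VT R false gs cert 20160 = true := by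
  decide +kernel

/-- the permutation group -/
abbrev K : Subgroup (Equiv.Perm (Fin 15)) := E.grp gens

theorem model {F : Type*} [Field F] [Fintype F] (hF : Fintype.card F = 2) (ι : TF F2 →+* F) :
    ∃ φ, IsModel E (Units.coeHom (Matrix (Fin 4) (Fin 4) F)) (ptv ι (Equiv.refl _) E VT) false ⊥ gens certL φ :=
  model_GL ι E hF (m := 34) ok (by decide +kernel) (by decide +kernel)

theorem equiv {F : Type*} [Field F] [Fintype F] (hF : Fintype.card F = 2) : Nonempty (GL (Fin 4) F ≃* K) :=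
  let ⟨ι, _⟩ := exists_hom F2 hF; let ⟨_, h⟩ := model hF ι; h.equiv

theorem chain : E.IsChain certL K := let ⟨_, h⟩ := model (TF.card F2) (RingHom.id _); h.chain

theorem card : Nat.card K = 20160 := chain.card.trans (modelOK_card ok)

def iA : List ℕ := [nat_lit 0x59f161, nat_lit 0xeec588, nat_lit 0xfac2d0, nat_lit 0x3f58d0]
def iB : List ℕ := [nat_lit 0x9be3856a2d4c071, nat_lit 0xc85437069e21bad, nat_lit 0x78365c0412e9abd, nat_lit 0x90e2b1475d68ca3]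
def iS : List ℕ := [nat_lit 0x46765c1ae92aaca21e91186701481, nat_lit 0x520d62de8746ca4ce5538ca411820, nat_lit 0x3e0b73688625568ca75398a408c40, nat_lit 0x451654d2c7b6ae8524b09cc520c40]
def iCertL0 : Lev := ⟨nat_lit 8, nat_lit 0x7fff00, (.node (nat_lit 15) (.node (nat_lit 11) (.node (nat_lit 9) (.leaf (nat_lit 0x5ab49ca307b9ac5a928398a418820)) (.node (nat_lit 10) (.leaf (nat_lit 0x498eace34542cd7ad09208c329c01)) (.leaf (nat_lit 0x46765c1ae92aaca21e91186701481)))) (.node (nat_lit 13) (.node (nat_lit 12) (.leaf (nat_lit 0x3eb49b24a75a114356909c65208c0)) (.leaf (nat_lit 0x59d565249536287ae131006729881))) (.node (nat_lit 14) (.leaf (nat_lit 0x49d4556c963d116c17311867200a1)) (.leaf (nat_lit 0x3571a3aaa8226cb264f2980208ce4))))) (.node (nat_lit 19) (.node (nat_lit 17) (.node (nat_lit 16) (.leaf (nat_lit 0x455365a0f455a9951cb28402198e4)) (.leaf (nat_lit 0x520d62de8746ca4ce5538ca411820))) (.node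 (nat_lit 18) (.leaf (nat_lit 0x59526a50fac1d1a4d8b0188208ce5)) (.leaf (nat_lit 0x3d944a2d15ce0a6d5d230c4701481)))) (.node (nat_lit 21) (.node (nat_lit 20) (.leaf (nat_lit 0x353142dec9566a75a14208c3380a1)) (.leaf (nat_lit 0x51288b5937da505aaae11067018a1))) (.node (nat_lit 22) (.leaf (nat_lit 0x451654d2c7b6ae8524b09cc520c40)) (.leaf (nat_lit 0x21f2ab66b4ba918598a2840238cc4))))))⟩
def iCertC0 : LevCert := ⟨iCertL0,
    [(nat_lit 10, nat_lit 0), (nat_lit 16, nat_lit 1), (nat_lit 21, nat_lit 3), (nat_lit 14, nat_lit 0), (nat_lit 12, nat_lit 1), (nat_lit 13, nat_lit 2), (nat_lit 19, nat_lit 3), (nat_lit 18, nat_lit 0), (nat_lit 11, nat_lit 3), (nat_lit 15, nat_lit 1), (nat_lit 17, nat_lit 0), (nat_lit 20, nat_lit 1), (nat_lit 9, nat_lit 2), (nat_lit 22, nat_lit 2)],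
    [[nat_lit 6, nat_lit 4], [nat_lit 2, nat_lit 2, nat_lit 4, nat_lit 6, nat_lit 4, nat_lit 2, nat_lit 4, nat_lit 2, nat_lit 6, nat_lit 4]],
    [nat_lit 0x3d906d6cb74a914cd4809cc511060, nat_lit 0x2d51825f6aca8d732683940131062]⟩
def iCertL1 : Lev := ⟨nat_lit 9, nat_lit 0x7ffe00, (.node (nat_lit 16) (.node (nat_lit 12) (.node (nat_lit 10) (.leaf (nat_lit 0x5ab49ca307b9ac5a928398a418820)) (.node (nat_lit 11) (.leaf (nat_lit 0x460e5b55564df2a26c820ce030825)) (.leaf (nat_lit 0x3d906d6cb74a914cd4809cc511060)))) (.node (nat_lit 14) (.node (nat_lit 13) (.leaf (nat_lit 0x55d2b518d54de98c16838826180a4)) (.leaf (nat_lit 0x55ea5da536452e6c2882086131ca0))) (.node (nat_lit 15) (.leaf (nat_lit 0x55b6a296e9262f9c18819ca0204c2)) (.leaf (nat_lit 0x49ee8b6b34aacb6520830ce508082))))) (.node (nat_lit 19) (.node (nat_lit 17) (.leaf (nat_lit 0x3a2ba31e99561653668184e621440)) (.node (nat_lit 18) (.leaf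 (nat_lit 0x328f84d32aaace6ae28104c028ce4)) (.leaf (nat_lit 0x2d51825f6aca8d732683940131062)))) (.node (nat_lit 21) (.node (nat_lit 20) (.leaf (nat_lit 0x29af4ce4e8b170ada8819c0209885)) (.leaf (nat_lit 0x4ac9845caab16f9d1a810c2729880))) (.node (nat_lit 22) (.leaf (nat_lit 0x512aad991835cf9c96821ca1180c2)) (.leaf (nat_lit 0x26765a9cf65614945a80980339444))))))⟩
def iCertC1 : LevCert := ⟨iCertL1,
    [(nat_lit 11, nat_lit 0), (nat_lit 18, nat_lit 1), (nat_lit 16, nat_lit 0), (nat_lit 22, nat_lit 1), (nat_lit 14, nat_lit 0), (nat_lit 20, nat_lit 0), (nat_lit 19, nat_lit 1), (nat_lit 17, nat_lit 0), (nat_lit 15, nat_lit 0), (nat_lit 13, nat_lit 0), (nat_lit 10, nat_lit 0), (nat_lit 12, nat_lit 0), (nat_lit 21, nat_lit 1)],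
    [[nat_lit 0, nat_lit 0, nat_lit 2, nat_lit 0, nat_lit 0], [nat_lit 2, nat_lit 2, nat_lit 2, nat_lit 4, nat_lit 2, nat_lit 4]],
    [nat_lit 0x32557c2349b5cab2d2809067100c5, nat_lit 0x415363e365d24e6d528284c3100e4]⟩
def iCertL2 : Lev := ⟨nat_lit 10, nat_lit 0x7dfc00, (.node (nat_lit 16) (.node (nat_lit 13) (.node (nat_lit 11) (.leaf (nat_lit 0x5ab49ca307b9ac5a928398a418820)) (.node (nat_lit 12) (.leaf (nat_lit 0x2e907d6329b5d6531282040628ce2)) (.leaf (nat_lit 0x32557c2349b5cab2d2809067100c5)))) (.node (nat_lit 14) (.leaf (nat_lit 0x498d83a2bad94f9d1283808231423)) (.node (nat_lit 15) (.leaf (nat_lit 0x4dabab22e82ad2a3d2810460218e5)) (.leaf (nat_lit 0x366bb322f542b2a39280880329cc4))))) (.node (nat_lit 20) (.node (nat_lit 18) (.leaf (nat_lit 0x56d35be2a64a8e6c128110e028cc1)) (.node (nat_lit 19) (.leaf (nat_lit 0x39f662a335d250ab528300a218487)) (.leaf (nat_lit 0x516f54e2cb560d749281988201427))))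 (.node (nat_lit 21) (.leaf (nat_lit 0x39ea5da3364a958352838c4501026)) (.node (nat_lit 22) (.leaf (nat_lit 0x415363e365d24e6d528284c3100e4)) (.leaf (nat_lit 0x2a129d2357b9ab6592831c4101483))))))⟩
def iCertC2 : LevCert := ⟨iCertL2,
    [(nat_lit 12, nat_lit 0), (nat_lit 21, nat_lit 1), (nat_lit 22, nat_lit 0), (nat_lit 19, nat_lit 1), (nat_lit 20, nat_lit 0), (nat_lit 11, nat_lit 0), (nat_lit 16, nat_lit 1), (nat_lit 15, nat_lit 0), (nat_lit 14, nat_lit 1), (nat_lit 18, nat_lit 0), (nat_lit 13, nat_lit 0)],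
    [[nat_lit 2, nat_lit 0, nat_lit 2, nat_lit 2, nat_lit 0, nat_lit 2, nat_lit 0, nat_lit 2, nat_lit 0, nat_lit 2, nat_lit 0, nat_lit 0, nat_lit 0, nat_lit 2, nat_lit 2], [nat_lit 2, nat_lit 2, nat_lit 4, nat_lit 2, nat_lit 4, nat_lit 4, nat_lit 2], [nat_lit 6, nat_lit 4, nat_lit 6, nat_lit 4, nat_lit 4, nat_lit 4, nat_lit 6, nat_lit 4, nat_lit 4, nat_lit 6, nat_lit 6, nat_lit 4, nat_lit 4, nat_lit 4, nat_lit 6]],
    [nat_lit 0x5aae636305d2537a9281106629c01, nat_lit 0x5aaf94e30a2d8d72928284e010cc4, nat_lit 0x5aad5ba3064a8f9a928094c3200e2]⟩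
def iCertL3 : Lev := ⟨nat_lit 11, nat_lit 0x1cf800, (.node (nat_lit 15) (.node (nat_lit 13) (.node (nat_lit 12) (.leaf (nat_lit 0x5ab49ca307b9ac5a928398a418820)) (.leaf (nat_lit 0x5ab27d2309b5cb6292800c8530447))) (.node (nat_lit 14) (.leaf (nat_lit 0x5ab3a3e309316e6a9282080709865)) (.leaf (nat_lit 0x5aaf94e30a2d8d72928284e010cc4)))) (.node (nat_lit 19) (.node (nat_lit 18) (.leaf (nat_lit 0x5aae636305d2537a9281106629c01)) (.leaf (nat_lit 0x5aac72e306cdf49292831c22010a3))) (.node (nat_lit 20) (.leaf (nat_lit 0x5aad5ba3064a8f9a928094c3200e2)) (.leaf (nat_lit 0x5aab6b23073e72a29281804139486)))))⟩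
def iCertC3 : LevCert := ⟨iCertL3,
    [(nat_lit 15, nat_lit 0), (nat_lit 14, nat_lit 1), (nat_lit 19, nat_lit 2), (nat_lit 20, nat_lit 1), (nat_lit 12, nat_lit 2), (nat_lit 18, nat_lit 2), (nat_lit 13, nat_lit 2)],
    [],
    []⟩
def iCert : List LevCert := [iCertC0, iCertC1, iCertC2, iCertC3]
def iCertL : List Lev := [iCertL0, iCertL1, iCertL2, iCertL3]
def iCertAL0 : Lev := ⟨nat_lit 0, nat_lit 255, (.node (nat_lit 4) (.node (nat_lit 2) (.node (nat_lit 1) (.leaf (nat_lit 0xfac688)) (.leaf (nat_lit 0x59fb01))) (.node (nat_lit 3) (.leaf (nat_lit 0x59f829)) (.leaf (nat_lit 0x59f161)))) (.node (nat_lit 6) (.node (nat_lit 5) (.leaf (nat_lit 0xf7045c)) (.leaf (nat_lit 0xb822fc))) (.node (nat_lit 7) (.leaf (nat_lit 0x41fba1)) (.leaf (nat_lit 0x1a22fd)))))⟩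
def iCertAC0 : LevCert := ⟨iCertAL0,
    [(nat_lit 3, nat_lit 0), (nat_lit 5, nat_lit 0), (nat_lit 6, nat_lit 1), (nat_lit 2, nat_lit 2), (nat_lit 4, nat_lit 3), (nat_lit 7, nat_lit 0), (nat_lit 1, nat_lit 2)],
    [[nat_lit 6, nat_lit 4, nat_lit 2], [nat_lit 4, nat_lit 6, nat_lit 8]],
    [nat_lit 0x2b59d8, nat_lit 0xddd850]⟩
def iCertAL1 : Lev := ⟨nat_lit 1, nat_lit 254, (.node (nat_lit 4) (.node (nat_lit 2) (.leaf (nat_lit 0xfac688)) (.node (nat_lit 3) (.leaf (nat_lit 0xddd850)) (.leaf (nat_lit 0xdd3360)))) (.node (nat_lit 6) (.node (nat_lit 5) (.leaf (nat_lit 0xa999f0)) (.leaf (nat_lit 0xeccca8))) (.node (nat_lit 7) (.leaf (nat_lit 0x466af8)) (.leaf (nat_lit 0x2b59d8)))))⟩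
def iCertAC1 : LevCert := ⟨iCertAL1,
    [(nat_lit 7, nat_lit 0), (nat_lit 2, nat_lit 1), (nat_lit 6, nat_lit 1), (nat_lit 5, nat_lit 0), (nat_lit 4, nat_lit 0), (nat_lit 3, nat_lit 0)],
    [[nat_lit 2, nat_lit 2, nat_lit 2, nat_lit 0, nat_lit 0, nat_lit 2, nat_lit 2, nat_lit 0], [nat_lit 2, nat_lit 4, nat_lit 2, nat_lit 2, nat_lit 2, nat_lit 4, nat_lit 4, nat_lit 2, nat_lit 2, nat_lit 4, nat_lit 4, nat_lit 4, nat_lit 4]],
    [nat_lit 0x8b7ac8, nat_lit 0x59df08]⟩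
def iCertAL2 : Lev := ⟨nat_lit 2, nat_lit 252, (.node (nat_lit 5) (.node (nat_lit 3) (.leaf (nat_lit 0xfac688)) (.node (nat_lit 4) (.leaf (nat_lit 0x9bb548)) (.leaf (nat_lit 0xb327c8)))) (.node (nat_lit 6) (.leaf (nat_lit 0xed4d48)) (.node (nat_lit 7) (.leaf (nat_lit 0x8b7ac8)) (.leaf (nat_lit 0x59df08)))))⟩
def iCertAC2 : LevCert := ⟨iCertAL2,
    [(nat_lit 6, nat_lit 0), (nat_lit 7, nat_lit 1), (nat_lit 5, nat_lit 0), (nat_lit 4, nat_lit 0), (nat_lit 3, nat_lit 1)],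
    [[nat_lit 0, nat_lit 0, nat_lit 0, nat_lit 0, nat_lit 2, nat_lit 0, nat_lit 0, nat_lit 0, nat_lit 2], [nat_lit 4, nat_lit 2, nat_lit 2, nat_lit 4, nat_lit 4, nat_lit 2, nat_lit 2]],
    [nat_lit 0xce7a88, nat_lit 0xae6e88]⟩
def iCertAL3 : Lev := ⟨nat_lit 3, nat_lit 248, (.node (nat_lit 5) (.node (nat_lit 4) (.leaf (nat_lit 0xfac688)) (.leaf (nat_lit 0x97bc88))) (.node (nat_lit 6) (.leaf (nat_lit 0xb9ce88)) (.node (nat_lit 7) (.leaf (nat_lit 0xce7a88)) (.leaf (nat_lit 0x77e888)))))⟩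
def iCertAC3 : LevCert := ⟨iCertAL3,
    [(nat_lit 6, nat_lit 0), (nat_lit 7, nat_lit 0), (nat_lit 4, nat_lit 1), (nat_lit 5, nat_lit 0)],
    [[nat_lit 0, nat_lit 0, nat_lit 2], [nat_lit 4, nat_lit 4, nat_lit 4, nat_lit 2]],
    [nat_lit 0xf35688, nat_lit 0xb3e688]⟩
def iCertAL4 : Lev := ⟨nat_lit 4, nat_lit 240, (.node (nat_lit 6) (.node (nat_lit 5) (.leaf (nat_lit 0xfac688)) (.leaf (nat_lit 0xf66688))) (.node (nat_lit 7) (.leaf (nat_lit 0xf35688)) (.leaf (nat_lit 0x9bd688))))⟩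
def iCertAC4 : LevCert := ⟨iCertAL4,
    [(nat_lit 6, nat_lit 0), (nat_lit 5, nat_lit 0), (nat_lit 7, nat_lit 1)],
    [[nat_lit 0, nat_lit 0, nat_lit 2, nat_lit 2, nat_lit 0, nat_lit 0, nat_lit 2]],
    [nat_lit 0xd7c688]⟩
def iCertAL5 : Lev := ⟨nat_lit 5, nat_lit 224, (.node (nat_lit 6) (.leaf (nat_lit 0xfac688)) (.node (nat_lit 7) (.leaf (nat_lit 0xd7c688)) (.leaf (nat_lit 0xbf4688))))⟩
def iCertAC5 : LevCert := ⟨iCertAL5,
    [(nat_lit 6, nat_lit 0), (nat_lit 7, nat_lit 0)],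
    [],
    []⟩
def iCertA : List LevCert := [iCertAC0, iCertAC1, iCertAC2, iCertAC3, iCertAC4, iCertAC5]
def iCertAL : List Lev := [iCertAL0, iCertAL1, iCertAL2, iCertAL3, iCertAL4, iCertAL5]
theorem i_ok : isoOK 8 3 8 15 4 16 23 5 Alt.a8CL certL iA iB iS iCert iCertA = true := by
  decide +kernel
theorem i_ss : ssOK 5 32 23 iCert iS = true := by
  decide +kernel
def TG : List ℕ := [nat_lit 0x78365c0412e9abd, nat_lit 0x90e2b1475d68ca3]
def TCL0 : Lev := ⟨nat_lit 0, nat_lit 0x7fff, (.node (nat_lit 7) (.node (nat_lit 3) (.node (nat_lit 1) (.leaf (nat_lit 0xedcba9876543210)) (.node (nat_lit 2) (.leaf (nat_lit 0x9372dc15e6b840a)) (.leaf (nat_lit 0x7d462ac13e5908b)))) (.node (nat_lit 5) (.node (nat_lit 4) (.leaf (nat_lit 0xcd7a6be42810359)) (.leaf (nat_lit 0xb4a9e2d738051c6))) (.node (nat_lit 6) (.leaf (nat_lit 0x139c2a67d054eb8)) (.leaf (nat_lit 0xa81ecb5703d6924))))) (.node (nat_lit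 11) (.node (nat_lit 9) (.node (nat_lit 8) (.leaf (nat_lit 0x7d538a60c1b2e94)) (.leaf (nat_lit 0x78365c0412e9abd))) (.node (nat_lit 10) (.leaf (nat_lit 0x19b530dca64782e)) (.leaf (nat_lit 0x764d0985be1a2c3)))) (.node (nat_lit 13) (.node (nat_lit 12) (.leaf (nat_lit 0x7560314d29abce8)) (.leaf (nat_lit 0x4e02879153cb6ad))) (.node (nat_lit 14) (.leaf (nat_lit 0x90e2b1475d68ca3)) (.leaf (nat_lit 0xe18524c69adb37))))))⟩
def TCC0 : LevCert := ⟨TCL0,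
    [(nat_lit 8, nat_lit 0), (nat_lit 13, nat_lit 1), (nat_lit 3, nat_lit 1), (nat_lit 5, nat_lit 1), (nat_lit 12, nat_lit 0), (nat_lit 10, nat_lit 0), (nat_lit 6, nat_lit 1), (nat_lit 9, nat_lit 0), (nat_lit 2, nat_lit 1), (nat_lit 1, nat_lit 1), (nat_lit 11, nat_lit 0), (nat_lit 4, nat_lit 1), (nat_lit 14, nat_lit 1), (nat_lit 7, nat_lit 0)],
    [[nat_lit 0, nat_lit 2, nat_lit 0, nat_lit 0, nat_lit 0, nat_lit 2], [nat_lit 4, nat_lit 4, nat_lit 2, nat_lit 4, nat_lit 4, nat_lit 2, nat_lit 2, nat_lit 2, nat_lit 2, nat_lit 4]],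
    [nat_lit 0xb9c3a5148d2e760, nat_lit 0x9a5264ce7bd8130]⟩
def TCL1 : Lev := ⟨nat_lit 1, nat_lit 0x7ffe, (.node (nat_lit 8) (.node (nat_lit 4) (.node (nat_lit 2) (.leaf (nat_lit 0xedcba9876543210)) (.node (nat_lit 3) (.leaf (nat_lit 0x9a5264ce7bd8130)) (.leaf (nat_lit 0x5ad782cb43916e0)))) (.node (nat_lit 6) (.node (nat_lit 5) (.leaf (nat_lit 0x24586b3dca19e70)) (.leaf (nat_lit 0xd723eab491658c0))) (.node (nat_lit 7) (.leaf (nat_lit 0x35cead62197b480)) (.leaf (nat_lit 0x8b596a7134e2dc0))))) (.node (nat_lit 11) (.node (nat_lit 9) (.leaf (nat_lit 0xb9c3a5148d2e760)) (.node (nat_lit 10) (.leaf (nat_lit 0xb6aec152d843790)) (.leaf (nat_lit 0xda9417c32e568b0)))) (.node (nat_lit 13) (.node (nat_lit 12) (.leaf (nat_lit 0x46b17d59e2ac380)) (.leaf (nat_lit 0xae18962d437bc50))) (.node (nat_lit 14) (.leaf (nat_lit 0x71e8259d34acb60)) (.leaf (nat_lit 0x1dbc728a56349e0))))))⟩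
def TCC1 : LevCert := ⟨TCL1,
    [(nat_lit 8, nat_lit 0), (nat_lit 2, nat_lit 1), (nat_lit 6, nat_lit 0), (nat_lit 3, nat_lit 1), (nat_lit 4, nat_lit 0), (nat_lit 11, nat_lit 1), (nat_lit 10, nat_lit 1), (nat_lit 7, nat_lit 0), (nat_lit 9, nat_lit 1), (nat_lit 14, nat_lit 0), (nat_lit 5, nat_lit 1), (nat_lit 13, nat_lit 1), (nat_lit 12, nat_lit 1)],
    [[nat_lit 0, nat_lit 0, nat_lit 2, nat_lit 2, nat_lit 0, nat_lit 2, nat_lit 0, nat_lit 2, nat_lit 0, nat_lit 0], [nat_lit 4, nat_lit 2, nat_lit 2, nat_lit 4, nat_lit 2]],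
    [nat_lit 0x762ce95a43d8b10, nat_lit 0xde47392b56ca810]⟩
def TCL2 : Lev := ⟨nat_lit 2, nat_lit 0x7dfc, (.node (nat_lit 8) (.node (nat_lit 5) (.node (nat_lit 3) (.leaf (nat_lit 0xedcba9876543210)) (.node (nat_lit 4) (.leaf (nat_lit 0xb584d963cae2710)) (.leaf (nat_lit 0x67da89bc342e510)))) (.node (nat_lit 6) (.leaf (nat_lit 0x3c78b9ade256410)) (.node (nat_lit 7) (.leaf (nat_lit 0xc35d69482e7ba10)) (.leaf (nat_lit 0x4a6e59c28db7310))))) (.node (nat_lit 12) (.node (nat_lit 10) (.leaf (nat_lit 0xde47392b56ca810)) (.node (nat_lit 11) (.leaf (nat_lit 0x5be32974ac8d610)) (.leaf (nat_lit 0xa4b2793ed865c10)))) (.node (nat_lit 13) (.leaf (nat_lit 0x762ce95a43d8b10)) (.node (nat_lit 14) (.leaf (nat_lit 0x82a5c9e67b34d10)) (.leaf (nat_lit 0x283649d5b7ace10))))))⟩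
def TCC2 : LevCert := ⟨TCL2,
    [(nat_lit 12, nat_lit 0), (nat_lit 8, nat_lit 1), (nat_lit 11, nat_lit 0), (nat_lit 4, nat_lit 1), (nat_lit 3, nat_lit 0), (nat_lit 7, nat_lit 1), (nat_lit 6, nat_lit 0), (nat_lit 5, nat_lit 0), (nat_lit 10, nat_lit 1), (nat_lit 14, nat_lit 0), (nat_lit 13, nat_lit 0)],
    [],
    []⟩
def TC : List LevCert := [TCC0, TCC1, TCC2]
def TCL : List Lev := [TCL0, TCL1, TCL2]
theorem T_chain : E.IsChain TCL (E.grp TG) := chain_grp (cert := TC) (by decide +kernel)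
theorem T_card : Nat.card (E.grp TG) = 2520 := T_chain.card.trans (by decide +kernel)
def jA : List ℕ := [nat_lit 0x1ac611, nat_lit 0x358d1]
def jB : List ℕ := [nat_lit 0x78365c0412e9abd, nat_lit 0x90e2b1475d68ca3]
def jS : List ℕ := [nat_lit 0x1cf535933ad09ac232a18a418041, nat_lit 0x207aa6485b9946be71500c520c41]
def jCertL0 : Lev := ⟨nat_lit 7, nat_lit 0x3fff80, (.node (nat_lit 14) (.node (nat_lit 10) (.node (nat_lit 8) (.leaf (nat_lit 0x2b49ca307b9ac5a928398a418820)) (.node (nat_lit 9) (.leaf (nat_lit 0x20a72693432ad93d6788c2031444)) (.leaf (nat_lit 0x1d45b5319a155640ef9002629043)))) (.node (nat_lit 12) (.node (nat_lit 11) (.leaf (nat_lit 0x274745b2aad2f41d4c804c520c02)) (.leaf (nat_lit 0x24b8c2a9a394f3b11368c41018a4))) (.node (nat_lit 13) (.leaf (nat_lit 0x10a84d316ba8762eb27840629062)) (.leaf (nat_lit 0x22f45672638eaa36095882031483))))) (.node (nat_lit 18) (.node (nat_lit 16) (.node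 (nat_lit 15) (.leaf (nat_lit 0x1d4629f169e68926b058c41010c5)) (.leaf (nat_lit 0x1cf535933ad09ac232a18a418041))) (.node (nat_lit 17) (.leaf (nat_lit 0x11093147a4e2d5b9e9a84c520043)) (.leaf (nat_lit 0x1cd5d0f07b255445335040628883)))) (.node (nat_lit 20) (.node (nat_lit 19) (.leaf (nat_lit 0x1cc69d485d1308ca757882030ca4)) (.leaf (nat_lit 0x1753a5ee8218a9c9b1a04c520860))) (.node (nat_lit 21) (.leaf (nat_lit 0x207aa6485b9946be71500c520c41)) (.leaf (nat_lit 0xf543d895cdb08d24a70c2629002))))))⟩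
def jCertC0 : LevCert := ⟨jCertL0,
    [(nat_lit 15, nat_lit 0), (nat_lit 20, nat_lit 1), (nat_lit 10, nat_lit 1), (nat_lit 12, nat_lit 1), (nat_lit 19, nat_lit 0), (nat_lit 17, nat_lit 0), (nat_lit 13, nat_lit 1), (nat_lit 16, nat_lit 0), (nat_lit 9, nat_lit 1), (nat_lit 8, nat_lit 1), (nat_lit 18, nat_lit 0), (nat_lit 11, nat_lit 1), (nat_lit 21, nat_lit 1), (nat_lit 14, nat_lit 0)],
    [[nat_lit 2, nat_lit 2, nat_lit 0, nat_lit 2, nat_lit 2, nat_lit 2, nat_lit 0, nat_lit 2, nat_lit 2, nat_lit 2], [nat_lit 2, nat_lit 4, nat_lit 2, nat_lit 2, nat_lit 2, nat_lit 4, nat_lit 4, nat_lit 2, nat_lit 2, nat_lit 4, nat_lit 4]],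
    [nat_lit 0x2287324a835f4aa66b3940611061, nat_lit 0x29243613732a952df138ca0104c4]⟩
def jCertL1 : Lev := ⟨nat_lit 8, nat_lit 0x3fff00, (.node (nat_lit 15) (.node (nat_lit 11) (.node (nat_lit 9) (.leaf (nat_lit 0x2b49ca307b9ac5a928398a418820)) (.node (nat_lit 10) (.leaf (nat_lit 0x211625ab9d5d2a3d0a3948308046)) (.leaf (nat_lit 0x1aaac92f5ba7182194390c500c22)))) (.node (nat_lit 13) (.node (nat_lit 12) (.leaf (nat_lit 0x152a4df5745ac44169380c218485)) (.leaf (nat_lit 0x24b6d18953e088cdd53802521843))) (.node (nat_lit 14) (.leaf (nat_lit 0x18f945cba4d10aa5aa3900619441)) (.leaf (nat_lit 0x174ac12d7a24e9c54c3902330805))))) (.node (nat_lit 18) (.node (nat_lit 16) (.leaf (nat_lit 0x2704beaa4518d93a2b3940231023)) (.node (nat_lit 17) (.leaf (nat_lit 0x24d8d6686268f5a9d0388a409860)) (.leaf (nat_lit 0x1b5851114be4e52d93384a030c44)))) (.node (nat_lit 20) (.node (nat_lit 19) (.leaf (nat_lit 0x1957a2934c14b939b13846031482))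 (.leaf (nat_lit 0x29243613732a952df138ca0104c4))) (.node (nat_lit 21) (.leaf (nat_lit 0x2287324a835f4aa66b3940611061)) (.leaf (nat_lit 0x10c5bd4e6d2334d6123880120ca6))))))⟩
def jCertC1 : LevCert := ⟨jCertL1,
    [(nat_lit 20, nat_lit 0), (nat_lit 19, nat_lit 1), (nat_lit 12, nat_lit 0), (nat_lit 21, nat_lit 1), (nat_lit 9, nat_lit 0), (nat_lit 16, nat_lit 1), (nat_lit 18, nat_lit 0), (nat_lit 14, nat_lit 1), (nat_lit 11, nat_lit 0), (nat_lit 13, nat_lit 1), (nat_lit 10, nat_lit 0), (nat_lit 15, nat_lit 0), (nat_lit 17, nat_lit 1)],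
    [[nat_lit 2, nat_lit 0, nat_lit 0, nat_lit 0, nat_lit 0, nat_lit 0, nat_lit 2, nat_lit 0, nat_lit 2], [nat_lit 2, nat_lit 2, nat_lit 2, nat_lit 2, nat_lit 4]],
    [nat_lit 0x15373e508d2a9635683944119804, nat_lit 0x22b925d05568f6b2683944401861]⟩
def jCertL2 : Lev := ⟨nat_lit 9, nat_lit 0x3efe00, (.node (nat_lit 15) (.node (nat_lit 12) (.node (nat_lit 10) (.leaf (nat_lit 0x2b49ca307b9ac5a928398a418820)) (.node (nat_lit 11) (.leaf (nat_lit 0x24c7ae906aa71aa5c8388c121460)) (.leaf (nat_lit 0x1aea45f094d4b4d588388c019481)))) (.node (nat_lit 13) (.leaf (nat_lit 0x15373e508d2a9635683944119804)) (.node (nat_lit 14) (.leaf (nat_lit 0x26a651b05bd3574a283944021823)) (.leaf (nat_lit 0x1716d5909a5f4939483944309880))))) (.node (nat_lit 19) (.node (nat_lit 17) (.leaf (nat_lit 0x2955b9504c98d9c5e8398a100883)) (.node (nat_lit 18) (.leaf (nat_lit 0x192aa93072e337d1a8388c301424)) (.leaf (nat_lit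 0x22b925d05568f6b2683944401861)))) (.node (nat_lit 20) (.leaf (nat_lit 0x1cd4ceb06456aa3e48388c409403)) (.node (nat_lit 21) (.leaf (nat_lit 0x1e98b270ab5d252e88398a008864)) (.leaf (nat_lit 0x12f53570a324e8cea8398a320801))))))⟩
def jCertC2 : LevCert := ⟨jCertL2,
    [(nat_lit 12, nat_lit 0), (nat_lit 18, nat_lit 1), (nat_lit 11, nat_lit 0), (nat_lit 10, nat_lit 1), (nat_lit 17, nat_lit 0), (nat_lit 19, nat_lit 1), (nat_lit 20, nat_lit 1), (nat_lit 21, nat_lit 0), (nat_lit 15, nat_lit 1), (nat_lit 14, nat_lit 0), (nat_lit 13, nat_lit 1)],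
    [],
    []⟩
def jCert : List LevCert := [jCertC0, jCertC1, jCertC2]
def jCertL : List Lev := [jCertL0, jCertL1, jCertL2]
def jCertAL0 : Lev := ⟨nat_lit 0, nat_lit 127, (.node (nat_lit 3) (.node (nat_lit 1) (.leaf (nat_lit 0x1ac688)) (.node (nat_lit 2) (.leaf (nat_lit 0x1ac642)) (.leaf (nat_lit 0x1ac611)))) (.node (nat_lit 5) (.node (nat_lit 4) (.leaf (nat_lit 0xd11ac)) (.leaf (nat_lit 0x88d63))) (.node (nat_lit 6) (.leaf (nat_lit 0x46b1a)) (.leaf (nat_lit 0x358d1)))))⟩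
def jCertAC0 : LevCert := ⟨jCertAL0,
    [(nat_lit 2, nat_lit 0), (nat_lit 6, nat_lit 1), (nat_lit 1, nat_lit 0), (nat_lit 5, nat_lit 1), (nat_lit 4, nat_lit 1), (nat_lit 3, nat_lit 1)],
    [[nat_lit 2, nat_lit 2, nat_lit 2, nat_lit 2, nat_lit 0, nat_lit 2, nat_lit 2, nat_lit 0], [nat_lit 2, nat_lit 4, nat_lit 4]],
    [nat_lit 0x1ab508, nat_lit 0x8eb18]⟩
def jCertAL1 : Lev := ⟨nat_lit 1, nat_lit 126, (.node (nat_lit 4) (.node (nat_lit 2) (.leaf (nat_lit 0x1ac688)) (.node (nat_lit 3) (.leaf (nat_lit 0x11e468)) (.leaf (nat_lit 0x11a3a8)))) (.node (nat_lit 5) (.leaf (nat_lit 0x119ca8)) (.node (nat_lit 6) (.leaf (nat_lit 0x8eb18)) (.leaf (nat_lit 0x6c790)))))⟩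
def jCertAC1 : LevCert := ⟨jCertAL1,
    [(nat_lit 5, nat_lit 1), (nat_lit 3, nat_lit 1), (nat_lit 4, nat_lit 0), (nat_lit 2, nat_lit 0), (nat_lit 6, nat_lit 1)],
    [[nat_lit 0, nat_lit 0, nat_lit 2, nat_lit 0, nat_lit 2, nat_lit 2], [nat_lit 4, nat_lit 4, nat_lit 2, nat_lit 4, nat_lit 2, nat_lit 4, nat_lit 2, nat_lit 4, nat_lit 4, nat_lit 4]],
    [nat_lit 0x1568c8, nat_lit 0x135688]⟩
def jCertAL2 : Lev := ⟨nat_lit 2, nat_lit 124, (.node (nat_lit 4) (.node (nat_lit 3) (.leaf (nat_lit 0x1ac688)) (.leaf (nat_lit 0x15e508))) (.node (nat_lit 5) (.leaf (nat_lit 0x1aa8c8)) (.node (nat_lit 6) (.leaf (nat_lit 0x1568c8)) (.leaf (nat_lit 0x9dd08)))))⟩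
def jCertAC2 : LevCert := ⟨jCertAL2,
    [(nat_lit 5, nat_lit 0), (nat_lit 6, nat_lit 0), (nat_lit 4, nat_lit 1), (nat_lit 3, nat_lit 0)],
    [[nat_lit 0, nat_lit 2, nat_lit 0, nat_lit 2, nat_lit 0, nat_lit 2, nat_lit 2], [nat_lit 2, nat_lit 4, nat_lit 2, nat_lit 2]],
    [nat_lit 0x135688, nat_lit 0xe5c88]⟩
def jCertAL3 : Lev := ⟨nat_lit 3, nat_lit 120, (.node (nat_lit 5) (.node (nat_lit 4) (.leaf (nat_lit 0x1ac688)) (.leaf (nat_lit 0x12bc88))) (.node (nat_lit 6) (.leaf (nat_lit 0x15cc88)) (.leaf (nat_lit 0xe5c88))))⟩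
def jCertAC3 : LevCert := ⟨jCertAL3,
    [(nat_lit 6, nat_lit 1), (nat_lit 5, nat_lit 0), (nat_lit 4, nat_lit 0)],
    [[nat_lit 0, nat_lit 0]],
    [nat_lit 0x166688]⟩
def jCertAL4 : Lev := ⟨nat_lit 4, nat_lit 112, (.node (nat_lit 5) (.leaf (nat_lit 0x1ac688)) (.node (nat_lit 6) (.leaf (nat_lit 0x166688)) (.leaf (nat_lit 0x135688))))⟩
def jCertAC4 : LevCert := ⟨jCertAL4,
    [(nat_lit 5, nat_lit 0), (nat_lit 6, nat_lit 0)],
    [],
    []⟩
def jCertA : List LevCert := [jCertAC0, jCertAC1, jCertAC2, jCertAC3, jCertAC4]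
def jCertAL : List Lev := [jCertAL0, jCertAL1, jCertAL2, jCertAL3, jCertAL4]
theorem j_ok : isoOK 7 3 8 15 4 16 22 5 Alt.a7CL TCL jA jB jS jCert jCertA = true := by
  decide +kernel
theorem j_ss : ssOK 5 32 22 jCert jS = true := by
  decide +kernel
/-- a subgroup `A₇` -/
theorem j_equiv : Nonempty (E.grp TG ≃* alternatingGroup (Fin 7)) :=
  equiv_of_isoOK T_chain Alt.a7_chain 22 5 32 rfl rfl (by decide) j_ok j_ss (by decide +kernel)

/-- the isomorphism with `A₈`; the subgroup `A₇` is mapped to the stabiliser of `0` -/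
theorem exists_a8 : ∃ ψ : K ≃* alternatingGroup (Fin 8),
    ∀ g : K, (g : Equiv.Perm (Fin 15)) ∈ E.grp TG ↔ (ψ g : Equiv.Perm (Fin 8)) 0 = 0 := by
  obtain ⟨ψ, h⟩ := exists_equiv_of_isoOK chain Alt.a8_chain 23 5 32 rfl rfl (by decide) i_ok i_ss
    (by decide +kernel)
  obtain ⟨A, f, -, hA⟩ := exists_subgroup_equiv ψ
    (inf_le_left (b := MulAction.stabilizer (Equiv.Perm (Fin 8)) (0 : Fin 8)))
  have h1 : E.grp TG = A.map K.subtype := by
    have := E.finite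
    refine Subgroup.eq_of_le_of_card_ge (Enc.grp_le fun P hP => ?_) ?_
    · obtain ⟨g, hg, rfl⟩ := inG_of_memOK chain (l := TG) (by decide +kernel) P hP
      refine ⟨g, ⟨⟨g, hg⟩, (hA _).2 ⟨(ψ _).2, ?_⟩, rfl⟩, rfl⟩
      obtain ⟨i, Q, h2, h3, h4⟩ := (by decide +kernel : ∀ P ∈ TG, ∃ i < 4, ∃ Q ∈ iA, iB[i]? = some P ∧
        iA[i]? = some Q ∧ app 3 8 Q 0 = 0) _ hP |>.imp fun _ h => h.2
      obtain ⟨a, ha, rfl⟩ := inG_of_memOK Alt.a8_chain (l := iA) (by decide +kernel) Q h2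
      rw [h i ⟨g, hg⟩ ⟨a, ha⟩ h4.1 h3]
      exact Fin.ext ((Alt.a8E.app_pk a 0).symm.trans h4.2 : (a 0).val = 0)
    · rw [Subgroup.card_map_of_injective K.subtype_injective, Nat.card_congr f.toEquiv, T_card]
      exact (Enc.IsChain.card (E := Alt.a8E) (Ls := Alt.a8CL.tail) Alt.a8_chain.2.2).trans_le
        (by decide +kernel)
  refine ⟨ψ, fun g => ?_⟩
  rw [h1]
  exact ((Subgroup.mem_map_iff_mem K.subtype_injective).trans (hA g)).trans (and_iff_right (ψ g).2)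

theorem equiv_a8 {F : Type*} [Field F] [Fintype F] (hF : Fintype.card F = 2) :
    Nonempty (GL (Fin 4) F ≃* alternatingGroup (Fin 8)) :=
  let ⟨ψ, _⟩ := exists_a8; ⟨(equiv hF).some.trans ψ⟩

end Cfsg.Agent.H56.GL42
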