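/-
PSL(4,2) on 15 points (generated by tools_h56/model.py).
-/
import Cfsg.Agent.H56.ClassModel
import Cfsg.Agent.H56.Fields
import Cfsg.Agent.H56.IsoK

set_option autoImplicit false

namespace Cfsg.Agent.H56.L42

open H14

def VT : ℕ := nat_lit 0x86ef34d59cb72a1
def R : BT := (.node (nat_lit 8) (.node (nat_lit 4) (.node (nat_lit 2) (.leaf (nat_lit 0)) (.node (nat_lit 3) (.leaf (nat_lit 2)) (.leaf (nat_lit 10)))) (.node (nat_lit 6) (.node (nat_lit 5) (.leaf (nat_lit 9)) (.leaf (nat_lit 7))) (.node (nat_lit 7) (.leaf (nat_lit 13)) (.leaf (nat_lit 3))))) (.node (nat_lit 12) (.node (nat_lit 10) (.node (nat_lit 9) (.leaf (nat_lit 14)) (.leaf (nat_lit 6))) (.node (nat_lit 11) (.leaf (nat_lit 1)) (.leaf (nat_lit 4)))) (.node (nat_lit 14) (.node (nat_lit 13) (.leaf (nat_lit 5)) (.leaf (nat_lit 8))) (.node (nat_lit 15) (.leaf (nat_lit 12)) (.leaf (nat_lit 11))))))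
def gs : List (ℕ × ℕ) := [(nat_lit 0xf6dc, nat_lit 0x4ae2dbc70986531), (nat_lit 0x643c, nat_lit 0x3d9e8cba567142)]
def gens : List ℕ := [nat_lit 0x4ae2dbc70986531, nat_lit 0x3d9e8cba567142]
def certL0 : Lev := ⟨nat_lit 0, nat_lit 0x7fff, (.node (nat_lit 7) (.node (nat_lit 3) (.node (nat_lit 1) (.leaf (nat_lit 0xedcba9876543210)) (.node (nat_lit 2) (.leaf (nat_lit 0xca89d54732e1b06)) (.leaf (nat_lit 0x61a5c489d2370eb)))) (.node (nat_lit 5) (.node (nat_lit 4) (.leaf (nat_lit 0x8d45a2e71bc0963)) (.leaf (nat_lit 0x16ab4ce2d907385))) (.node (nat_lit 6) (.leaf (nat_lit 0x4c7a2135806e9bd)) (.leaf (nat_lit 0x4ae2dbc70986531))))) (.node (nat_lit 11) (.node (nat_lit 9) (.node (nat_lit 8) (.leaf (nat_lit 0xedc53a6014b9782)) (.leaf (nat_lit 0xc365e10b49d28a7))) (.node (nat_lit 10) (.leaf (nat_lit 0x7231c065e94bad8)) (.leaf (nat_lit 0x27380cd9e5ab461)))) (.node (nat_lit 13) (.node (nat_lit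 12) (.leaf (nat_lit 0x3c6015a9b48d27e)) (.leaf (nat_lit 0x6e0139db28ca574))) (.node (nat_lit 14) (.leaf (nat_lit 0x30d28e45ab176c9)) (.leaf (nat_lit 0x3d9e8cba567142))))))⟩
def certC0 : LevCert := ⟨certL0,
    [(nat_lit 6, nat_lit 0), (nat_lit 14, nat_lit 1), (nat_lit 3, nat_lit 0), (nat_lit 4, nat_lit 1), (nat_lit 12, nat_lit 0), (nat_lit 10, nat_lit 1), (nat_lit 1, nat_lit 0), (nat_lit 13, nat_lit 1), (nat_lit 8, nat_lit 0), (nat_lit 2, nat_lit 1), (nat_lit 9, nat_lit 1), (nat_lit 11, nat_lit 0), (nat_lit 5, nat_lit 0), (nat_lit 7, nat_lit 1)],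
    [[nat_lit 0, nat_lit 0, nat_lit 0, nat_lit 2, nat_lit 0, nat_lit 2, nat_lit 0, nat_lit 0, nat_lit 0, nat_lit 2, nat_lit 0, nat_lit 0], [nat_lit 2, nat_lit 2, nat_lit 2, nat_lit 4, nat_lit 2, nat_lit 4, nat_lit 4, nat_lit 2, nat_lit 2]],
    [nat_lit 0x6897c21ae435bd0, nat_lit 0xc914e825bad7630]⟩
def certL1 : Lev := ⟨nat_lit 1, nat_lit 0x7ffe, (.node (nat_lit 8) (.node (nat_lit 4) (.node (nat_lit 2) (.leaf (nat_lit 0xedcba9876543210)) (.node (nat_lit 3) (.leaf (nat_lit 0x2b8547d9a36c1e0)) (.leaf (nat_lit 0x642ac957e831bd0)))) (.node (nat_lit 6) (.node (nat_lit 5) (.leaf (nat_lit 0x2b85ed73a91c640)) (.leaf (nat_lit 0x8697b34d512eca0))) (.node (nat_lit 7) (.leaf (nat_lit 0x462a3b7c195ed80)) (.leaf (nat_lit 0xc36e8491b7ad520))))) (.node (nat_lit 11) (.node (nat_lit 9) (.leaf (nat_lit 0x6897c21ae435bd0)) (.node (nat_lit 10) (.leaf (nat_lit 0x92d361b47c8ae50)) (.leaf (nat_lit 0xb285163ecd7a490))))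 (.node (nat_lit 13) (.node (nat_lit 12) (.leaf (nat_lit 0x8d4127695eb3ac0)) (.leaf (nat_lit 0xc914e825bad7630))) (.node (nat_lit 14) (.leaf (nat_lit 0xe12a9bdc6354780)) (.leaf (nat_lit 0x183dc26a4e95b70))))))⟩
def certC1 : LevCert := ⟨certL1,
    [(nat_lit 8, nat_lit 0), (nat_lit 12, nat_lit 1), (nat_lit 13, nat_lit 0), (nat_lit 9, nat_lit 1), (nat_lit 10, nat_lit 0), (nat_lit 14, nat_lit 1), (nat_lit 4, nat_lit 1), (nat_lit 7, nat_lit 0), (nat_lit 5, nat_lit 1), (nat_lit 6, nat_lit 0), (nat_lit 11, nat_lit 1), (nat_lit 3, nat_lit 1), (nat_lit 2, nat_lit 1)],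
    [[nat_lit 2, nat_lit 0, nat_lit 0, nat_lit 2, nat_lit 2, nat_lit 0, nat_lit 0, nat_lit 0], [nat_lit 4, nat_lit 4, nat_lit 2, nat_lit 4, nat_lit 4, nat_lit 2, nat_lit 2]],
    [nat_lit 0xa93de8b52c47610, nat_lit 0x8ca2d67e594b310]⟩
def certL2 : Lev := ⟨nat_lit 2, nat_lit 0x7fec, (.node (nat_lit 9) (.node (nat_lit 6) (.node (nat_lit 3) (.leaf (nat_lit 0xedcba9876543210)) (.node (nat_lit 5) (.leaf (nat_lit 0x7ad3c5e89642b10)) (.leaf (nat_lit 0x5e973cab8246d10)))) (.node (nat_lit 7) (.leaf (nat_lit 0xa93de8b52c47610)) (.node (nat_lit 8) (.leaf (nat_lit 0x3c6e5a72d94b810)) (.leaf (nat_lit 0xd6bc87293a4e510))))) (.node (nat_lit 12) (.node (nat_lit 10) (.leaf (nat_lit 0xb3e6925ac84d710)) (.node (nat_lit 11) (.leaf (nat_lit 0x6dbc2789e543a10)) (.leaf (nat_lit 0x8ca2d67e594b310)))) (.node (nat_lit 13) (.leaf (nat_lit 0xc52a7e36bd48910)) (.node (nat_lit 14) (.leaf (nat_lit 0x92d3b5687e4ac10))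 (.leaf (nat_lit 0x2b85639da74ce10))))))⟩
def certC2 : LevCert := ⟨certL2,
    [(nat_lit 6, nat_lit 0), (nat_lit 11, nat_lit 1), (nat_lit 9, nat_lit 1), (nat_lit 8, nat_lit 0), (nat_lit 3, nat_lit 1), (nat_lit 13, nat_lit 0), (nat_lit 5, nat_lit 1), (nat_lit 14, nat_lit 1), (nat_lit 12, nat_lit 0), (nat_lit 10, nat_lit 1), (nat_lit 7, nat_lit 0)],
    [[nat_lit 2, nat_lit 2, nat_lit 2, nat_lit 0, nat_lit 2, nat_lit 2, nat_lit 0, nat_lit 2, nat_lit 2, nat_lit 2, nat_lit 0, nat_lit 2, nat_lit 0, nat_lit 0], [nat_lit 2, nat_lit 2, nat_lit 2, nat_lit 2, nat_lit 2, nat_lit 4, nat_lit 4, nat_lit 2, nat_lit 2, nat_lit 4], [nat_lit 6, nat_lit 4, nat_lit 6, nat_lit 6, nat_lit 4, nat_lit 6, nat_lit 6, nat_lit 6, nat_lit 4, nat_lit 4, nat_lit 4, nat_lit 4, nat_lit 6]],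
    [nat_lit 0xe958adb36c47210, nat_lit 0xeb3da895674c210, nat_lit 0xe597ac3b6d48210]⟩
def certL3 : Lev := ⟨nat_lit 3, nat_lit 0x3ba8, (.node (nat_lit 9) (.node (nat_lit 7) (.node (nat_lit 5) (.leaf (nat_lit 0xedcba9876543210)) (.leaf (nat_lit 0xe879abdc6345210))) (.node (nat_lit 8) (.leaf (nat_lit 0xe958adb36c47210)) (.leaf (nat_lit 0xe597ac3b6d48210)))) (.node (nat_lit 12) (.node (nat_lit 11) (.leaf (nat_lit 0xe785a3cd6b49210)) (.leaf (nat_lit 0xecd3a578694b210))) (.node (nat_lit 13) (.leaf (nat_lit 0xeb3da895674c210)) (.leaf (nat_lit 0xe3bca759684d210)))))⟩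
def certC3 : LevCert := ⟨certL3,
    [(nat_lit 7, nat_lit 0), (nat_lit 12, nat_lit 1), (nat_lit 8, nat_lit 2), (nat_lit 5, nat_lit 1), (nat_lit 11, nat_lit 2), (nat_lit 9, nat_lit 2), (nat_lit 13, nat_lit 2)],
    [],
    []⟩
def cert : List LevCert := [certC0, certC1, certC2, certC3]
def certL : List Lev := [certL0, certL1, certL2, certL3]
/-- the numbering of the points -/
abbrev E : Enc (Fin 15) 15 4 16 := finEnc 15 4 16 rfl (by decide)
theorem ok : modelOK F2 4 15 4 16 VT R true gs cert 20160 = true := by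
  decide +kernel

/-- the permutation group -/
abbrev K : Subgroup (Equiv.Perm (Fin 15)) := E.grp gens

theorem model {F : Type*} [Field F] [Fintype F] (hF : Fintype.card F = 2) (ι : TF F2 →+* F) :
    ∃ φ, IsModel E (slToMat 4 F) (ptv ι (Equiv.refl _) E VT) true (Subgroup.center _) gens certL φ :=
  model_PSL ι E hF (m := 27) (by decide) ok (by decide +kernel) (by decide +kernel)

theorem equiv {F : Type*} [Field F] [Fintype F] (hF : Fintype.card F = 2) : Nonempty (Matrix.ProjectiveSpecialLinearGroup (Fin 4) F ≃* K) :=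
  let ⟨ι, _⟩ := exists_hom F2 hF; let ⟨_, h⟩ := model hF ι; h.equiv_quot

theorem chain : E.IsChain certL K := let ⟨_, h⟩ := model (TF.card F2) (RingHom.id _); h.chain

theorem card : Nat.card K = 20160 := chain.card.trans (modelOK_card ok)

def c1a : Cls := ⟨nat_lit 0xedcba9876543210, 20160, [nat_lit 0x7fff, nat_lit 0x7ffe, nat_lit 0x7fec, nat_lit 0x3ba8]⟩
def c2a : Cls := ⟨nat_lit 0xe87ba9dc2543601, 192, [nat_lit 0x31c7, nat_lit 2, nat_lit 0x31c4, nat_lit 0xa28]⟩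
def c2b : Cls := ⟨nat_lit 0xdec98ba75642301, 96, [nat_lit 0x6f6f, nat_lit 2, nat_lit 0x656c, nat_lit 8]⟩
def c3a : Cls := ⟨nat_lit 0x5ba68ec2d907341, 180, [nat_lit 0x7fff, nat_lit 2, nat_lit 0x7fec, nat_lit 8]⟩
def c3b : Cls := ⟨nat_lit 0xa8c9457d6be3021, 18, [nat_lit 0x2ba7, nat_lit 2, nat_lit 4, nat_lit 0x1008]⟩
def c4a : Cls := ⟨nat_lit 0x4c7ba3d805e9621, 16, [nat_lit 0x31c7, nat_lit 2, nat_lit 4, nat_lit 520]⟩
def c4b : Cls := ⟨nat_lit 0x7b14de5698ac320, 8, [nat_lit 1, nat_lit 0x3c1e, nat_lit 4, nat_lit 8]⟩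
def c5a : Cls := ⟨nat_lit 0x79048a56bdec321, 15, [nat_lit 0x7fff, nat_lit 2, nat_lit 4, nat_lit 8]⟩
def c6a : Cls := ⟨nat_lit 0x765d8c09b4ea321, 12, [nat_lit 0x57bf, nat_lit 2, nat_lit 4, nat_lit 8]⟩
def c6b : Cls := ⟨nat_lit 0x7da680c4b9e5321, 6, [nat_lit 559, nat_lit 2, nat_lit 4, nat_lit 8]⟩
def c7a : Cls := ⟨nat_lit 0x7c4086dab5e9321, 7, [nat_lit 0xa4f, nat_lit 2, nat_lit 4, nat_lit 8]⟩
def c7b : Cls := ⟨nat_lit 0x7ad5894cb0e6321, 7, [nat_lit 0x86f, nat_lit 2, nat_lit 4, nat_lit 8]⟩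
def c15a : Cls := ⟨nat_lit 0x709c8d65bae4321, 15, [nat_lit 0x7fff, nat_lit 2, nat_lit 4, nat_lit 8]⟩
def c15b : Cls := ⟨nat_lit 0x756a8490bced321, 15, [nat_lit 0x7fff, nat_lit 2, nat_lit 4, nat_lit 8]⟩
def cl : List Cls := [c1a, c2a, c2b, c3a, c3b, c4a, c4b, c5a, c6a, c6b, c7a, c7b, c15a, c15b]
theorem cl_ok : allL cl (clsOK 4 16 15 certL 0) = true := by decide +kernel
theorem cl_pairs : pairsOK 4 16 15 certL 0 cl = true := by decide +kernel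
/-- the conjugacy classes -/
theorem classes : E.ClassList K cl :=
  chain.classList (E.fixes_zero K) (allL_iff.1 cl_ok) cl_pairs card (by decide +kernel)

end Cfsg.Agent.H56.L42
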