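/-
SL(2,5) on 24 vectors (generated by tools_h56/model.py).
-/
import Cfsg.Agent.H56.ClassModel
import Cfsg.Agent.H56.Fields
import Cfsg.Agent.H56.IsoK

set_option autoImplicit false
set_option maxRecDepth 100000
set_option Elab.async false

namespace Cfsg.Agent.H56.SL25

open H14

def VT : ℕ := nat_lit 0x91488849a2614046112c38c22996d331c801
def R : BT := (.node (nat_lit 19) (.node (nat_lit 10) (.node (nat_lit 4) (.node (nat_lit 2) (.leaf (nat_lit 0)) (.node (nat_lit 3) (.leaf (nat_lit 8)) (.leaf (nat_lit 10)))) (.node (nat_lit 8) (.leaf (nat_lit 14)) (.node (nat_lit 9) (.leaf (nat_lit 20)) (.leaf (nat_lit 17))))) (.node (nat_lit 16) (.node (nat_lit 11) (.leaf (nat_lit 7)) (.node (nat_lit 12) (.leaf (nat_lit 11)) (.leaf (nat_lit 3)))) (.node (nat_lit 17) (.leaf (nat_lit 15)) (.node (nat_lit 18) (.leaf (nat_lit 12)) (.leaf (nat_lit 19)))))) (.node (nat_lit 28) (.node (nat_lit 25) (.node (nat_lit 20) (.leaf (nat_lit 4))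 (.node (nat_lit 24) (.leaf (nat_lit 22)) (.leaf (nat_lit 13)))) (.node (nat_lit 26) (.leaf (nat_lit 6)) (.node (nat_lit 27) (.leaf (nat_lit 18)) (.leaf (nat_lit 5))))) (.node (nat_lit 34) (.node (nat_lit 32) (.leaf (nat_lit 2)) (.node (nat_lit 33) (.leaf (nat_lit 1)) (.leaf (nat_lit 16)))) (.node (nat_lit 35) (.leaf (nat_lit 21)) (.node (nat_lit 36) (.leaf (nat_lit 9)) (.leaf (nat_lit 23)))))))
def gs : List (ℕ × ℕ) := [(nat_lit 0x508, nat_lit 0xba06c9a636ad17283dcd028a731041), (nat_lit 0x908, nat_lit 0xb56f03a8ce950938bc4d62d2801461)]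
def gens : List ℕ := [nat_lit 0xba06c9a636ad17283dcd028a731041, nat_lit 0xb56f03a8ce950938bc4d62d2801461]
def certL0 : Lev := ⟨nat_lit 0, nat_lit 0xffffff, (.node (nat_lit 12) (.node (nat_lit 6) (.node (nat_lit 3) (.node (nat_lit 1) (.leaf (nat_lit 0xbdab49ca307b9ac5a928398a418820)) (.node (nat_lit 2) (.leaf (nat_lit 0xadece63d7454107348a49c44d0a403)) (.leaf (nat_lit 0xbad499d22d34ace40d90154a1780e4)))) (.node (nat_lit 4) (.leaf (nat_lit 0xb56f03a8ce950938bc4d62d2801461)) (.node (nat_lit 5) (.leaf (nat_lit 0xbb4d29ba281b209b568b0bca051c82)) (.leaf (nat_lit 0x55d72719091b602ad0a19c4163b08f))))) (.node (nat_lit 9) (.node (nat_lit 7) (.leaf (nat_lit 0xb3a543ccd1789b022d5540125b8c2c)) (.node (nat_lit 8) (.leaf (nat_lit 0xba06c9a636ad17283dcd028a731041)) (.leaf (nat_lit 0x6c05309de6ba23563a4020e89b2caa)))) (.node (nat_lit 10) (.leaf (nat_lit 0x5aaed10eb2a24338981672190215e7)) (.node (nat_lit 11) (.leaf (nat_lit 0xb45e23c0c45aab46826e2dd2390588))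 (.leaf (nat_lit 0x6b1d20cdf119e0805aa658a85ba889)))))) (.node (nat_lit 18) (.node (nat_lit 15) (.node (nat_lit 13) (.leaf (nat_lit 0x1dd149560c7d9a0524a79c48b13826)) (.node (nat_lit 14) (.leaf (nat_lit 0x69ae80d5ec7481388cf04da8b11544)) (.leaf (nat_lit 0x1b63595a0710185ba28a0bc864cd6e)))) (.node (nat_lit 16) (.leaf (nat_lit 0xb116a3d0cd04dc2ade111c9217b105)) (.node (nat_lit 17) (.leaf (nat_lit 0x6c4670a1e0b54d280a6c2de8a7112b)) (.leaf (nat_lit 0x74ad142c029d0a733c6d81155626e1))))) (.node (nat_lit 21) (.node (nat_lit 19) (.leaf (nat_lit 0x5d893102aabb623951213998e440af)) (.node (nat_lit 20) (.leaf (nat_lit 0x40ef603d544b0f38d48b941cd094c2)) (.leaf (nat_lit 0x19c40916174515563ecd324938adc1)))) (.node (nat_lit 22) (.leaf (nat_lit 0xb3413388d5bc22a74a840bd2c5a0a3)) (.node (nat_lit 23) (.leaf (nat_lit 0x682d50c9f014d8735d1153a841a565)) (.leaf (nat_lit 0x59b055dd3954817892c399112d06b)))))))⟩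
def certC0 : LevCert := ⟨certL0,
    [(nat_lit 7, nat_lit 0), (nat_lit 3, nat_lit 1), (nat_lit 4, nat_lit 0), (nat_lit 19, nat_lit 1), (nat_lit 21, nat_lit 0), (nat_lit 1, nat_lit 1), (nat_lit 2, nat_lit 0), (nat_lit 13, nat_lit 1), (nat_lit 12, nat_lit 1), (nat_lit 15, nat_lit 0), (nat_lit 22, nat_lit 1), (nat_lit 9, nat_lit 1), (nat_lit 8, nat_lit 0), (nat_lit 20, nat_lit 0), (nat_lit 10, nat_lit 0), (nat_lit 16, nat_lit 0), (nat_lit 23, nat_lit 1), (nat_lit 18, nat_lit 0), (nat_lit 5, nat_lit 1), (nat_lit 14, nat_lit 0), (nat_lit 6, nat_lit 0), (nat_lit 11, nat_lit 0), (nat_lit 17, nat_lit 1)],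
    [[nat_lit 0, nat_lit 2, nat_lit 2, nat_lit 0, nat_lit 2, nat_lit 2, nat_lit 0, nat_lit 2, nat_lit 0, nat_lit 2, nat_lit 2], [nat_lit 4, nat_lit 2, nat_lit 2, nat_lit 2, nat_lit 2, nat_lit 4, nat_lit 4, nat_lit 4, nat_lit 2, nat_lit 4, nat_lit 2]],
    [nat_lit 0xcd2378a9523a563aae8895ac59a00, nat_lit 0xa902761577b38cfa2a081c8538b520]⟩
def certL1 : Lev := ⟨nat_lit 1, nat_lit 0xa10202, (.node (nat_lit 16) (.node (nat_lit 9) (.leaf (nat_lit 0xbdab49ca307b9ac5a928398a418820)) (.leaf (nat_lit 0x83eeb21869638538a828a3656396a0))) (.node (nat_lit 21) (.leaf (nat_lit 0x4b211b34e19b8a41aaa8588cfa4ae0)) (.node (nat_lit 23) (.leaf (nat_lit 0xa902761577b38cfa2a081c8538b520)) (.leaf (nat_lit 0xcd2378a9523a563aae8895ac59a00)))))⟩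
def certC1 : LevCert := ⟨certL1,
    [(nat_lit 23, nat_lit 0), (nat_lit 21, nat_lit 1), (nat_lit 9, nat_lit 0), (nat_lit 16, nat_lit 1)],
    [],
    []⟩
def cert : List LevCert := [certC0, certC1]
def certL : List Lev := [certL0, certL1]
/-- the numbering of the points -/
abbrev E : Enc (Fin 24) 24 5 32 := finEnc 24 5 32 rfl (by decide)
theorem ok : modelOK F5 2 24 5 32 VT R false gs cert 120 = true := by
  decide +kernel

/-- the permutation group -/
abbrev K : Subgroup (Equiv.Perm (Fin 24)) := E.grp gens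

theorem model {F : Type*} [Field F] [Fintype F] (hF : Fintype.card F = 5) (ι : TF F5 →+* F) :
    ∃ φ, IsModel E (slToMat 2 F) (ptv ι (Equiv.refl _) E VT) false ⊥ gens certL φ :=
  model_SL ι E hF (m := 14) (by decide) ok (by decide +kernel) (by decide +kernel)

theorem equiv {F : Type*} [Field F] [Fintype F] (hF : Fintype.card F = 5) : Nonempty (Matrix.SpecialLinearGroup (Fin 2) F ≃* K) :=
  let ⟨ι, _⟩ := exists_hom F5 hF; let ⟨_, h⟩ := model hF ι; h.equiv

theorem chain : E.IsChain certL K := let ⟨_, h⟩ := model (TF.card F5) (RingHom.id _); h.chain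

theorem card : Nat.card K = 120 := chain.card.trans (modelOK_card ok)

def c1a : Cls := ⟨nat_lit 0xbdab49ca307b9ac5a928398a418820, 120, [nat_lit 0xffffff, nat_lit 0xa10202]⟩
def c2a : Cls := ⟨nat_lit 0x89961292e3681e2aa0ea4da728328e, 120, [nat_lit 0xffffff, nat_lit 0xa10202]⟩
def c3a : Cls := ⟨nat_lit 0xb56f03a8ce950938bc4d62d2801461, 6, [nat_lit 0x11400b, nat_lit 2]⟩
def c4a : Cls := ⟨nat_lit 0x19c40916174515563ecd324938adc1, 4, [nat_lit 0x104003, nat_lit 2]⟩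
def c5a : Cls := ⟨nat_lit 0x83eeb21869638538a828a3656396a0, 10, [nat_lit 0x4001, nat_lit 0xa10202]⟩
def c5b : Cls := ⟨nat_lit 0xba06c9a636ad17283dcd028a731041, 10, [nat_lit 0x145297, nat_lit 2]⟩
def c6a : Cls := ⟨nat_lit 0x74ad142c029d0a733c6d81155626e1, 6, [nat_lit 0x924003, nat_lit 2]⟩
def c10a : Cls := ⟨nat_lit 0x14dc6a91833d12803eed8957282ac1, 10, [nat_lit 0x784863, nat_lit 2]⟩
def c10b : Cls := ⟨nat_lit 0x1b63595a0710185ba28a0bc864cd6e, 10, [nat_lit 0x4001, nat_lit 0xa10202]⟩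
def cl : List Cls := [c1a, c2a, c3a, c4a, c5a, c5b, c6a, c10a, c10b]
theorem cl_ok : allL cl (clsOK 5 32 24 certL 0) = true := by decide +kernel
theorem cl_pairs : pairsOK 5 32 24 certL 0 cl = true := by decide +kernel
/-- the conjugacy classes -/
theorem classes : E.ClassList K cl :=
  chain.classList (E.fixes_zero K) (allL_iff.1 cl_ok) cl_pairs card (by decide +kernel)

end Cfsg.Agent.H56.SL25
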